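import Cfsg.Agent.Lib.TIElem.Setting

/-!
# Two points of the coset space of the Sylow normaliser

An element of order `q - 1` fixes exactly two points, and the normaliser is transitive on the other
points.
-/

set_option autoImplicit false
set_option linter.unusedSectionVars false
set_option linter.style.haveILetI false

namespace CfsgLib.TIElem

open MulAction Subgroup

theorem eq_one_of_inverted_and_fixed {G : Type*} [Group G] {u y : G} (ho : Odd (orderOf y))
    (hinv : u * y * u⁻¹ = y⁻¹) (hcomm : Commute u y) : y = 1 := by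
  rw [hcomm.eq, mul_inv_cancel_right] at hinv
  have h2 : y ^ 2 = 1 := by rw [pow_two]; nth_rewrite 1 [hinv]; exact inv_mul_cancel y
  rcases (Nat.dvd_prime Nat.prime_two).mp (orderOf_dvd_of_pow_eq_one h2) with h | h
  · exact orderOf_eq_one_iff.mp h
  · rw [h] at ho; exact absurd ho (by decide)

theorem normal_centralizer_subgroupOf {G : Type*} [Group G] (A : Subgroup G) :
    ((centralizer (A : Set G)).subgroupOf (normalizer (A : Set G))).Normal := by
  refine ⟨fun c hc g a ha => ?_⟩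
  have hc' : ∀ x ∈ A, x * (c : G) = c * x := hc
  have ha' : (g : G)⁻¹ * a * g ∈ A := by
    simpa using (mem_normalizer_iff.mp (inv_mem g.2) a).mp ha
  have e := hc' _ ha'
  show a * ((g : G) * c * (g : G)⁻¹) = (g : G) * c * (g : G)⁻¹ * a
  calc a * ((g : G) * c * (g : G)⁻¹) = g * ((g : G)⁻¹ * a * g * c) * (g : G)⁻¹ := by group
    _ = g * (c * ((g : G)⁻¹ * a * g)) * (g : G)⁻¹ := by rw [e]
    _ = _ := by group

namespace Hyp

variable {G : Type*} [Group G] [Finite G] {S : Sylow 2 G} (h : Hyp S)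
  (hn : ¬ (S : Subgroup G).Normal)
include h hn

local notation "HN" => normalizer ((S : Subgroup G) : Set G)
local notation "HC" => centralizer ((S : Subgroup G) : Set G)
local notation "Ω" => G ⧸ normalizer ((S : Subgroup G) : Set G)
local notation "o" => (QuotientGroup.mk 1 : G ⧸ normalizer ((S : Subgroup G) : Set G))
local notation "m" => Nat.card (S : Subgroup G) - 1

theorem m_odd : Odd m := by
  obtain ⟨a, ha⟩ := (S.2 : IsPGroup 2 (S : Subgroup G)).exists_card_eq
  have h4 := h.four_le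
  rcases a with _ | a
  · rw [ha] at h4; simp at h4
  · rw [ha, pow_succ]
    exact ⟨2 ^ a - 1, by have := Nat.two_pow_pos a; omega⟩

theorem pow_m_mem {n : G} (hn' : n ∈ HN) : n ^ m ∈ HC := by
  haveI := normal_centralizer_subgroupOf (S : Subgroup G)
  have := ((HC).subgroupOf HN).pow_index_mem ⟨n, hn'⟩
  rw [← relIndex, h.relIndex_centralizer hn] at this
  exact this

theorem card_swap_eq (b : Ω) : Nat.card (SEmb.Swap o b) = m := by
  classical
  rw [SEmb.card_swap (h.stronglyEmbedded hn)]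
  haveI : Fintype (S : Subgroup G) := Fintype.ofFinite _
  have e : SEmb.Swap o o ≃ {s : (S : Subgroup G) // s ≠ 1} :=
    { toFun := fun i => ⟨⟨i.1, h.orderOf_two_mem i.2.1 ((SEmb.smul_one_eq_iff _).mp i.2.2)⟩,
        fun e => Invol.ne_one_of_invol i.2.1 (congrArg Subtype.val e)⟩
      invFun := fun s => ⟨s.1.1, h.orderOf_mem s.1.2 (fun e => s.2 (Subtype.ext e)),
        (SEmb.smul_one_eq_iff _).mpr (le_normalizer s.1.2)⟩
      left_inv := fun _ => rfl
      right_inv := fun _ => rfl }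
  rw [Nat.card_congr e]
  simp [Nat.card_eq_fintype_card, Fintype.card_subtype_compl]

theorem odd_card_stab {b : Ω} (hb : b ≠ o) : Odd (Nat.card ↥(HN ⊓ stabilizer G b)) := by
  induction b using QuotientGroup.induction_on with
  | _ g =>
  have hg : g ∉ HN := fun hg => hb (QuotientGroup.eq.mpr (by simpa using hg))
  have e : HN ⊓ stabilizer G (QuotientGroup.mk g : Ω) =
      HN ⊓ (HN).map (MulAut.conj g).toMonoidHom := by
    ext x
    rw [mem_inf, mem_inf, mem_stabilizer_iff, SEmb.smul_mk_eq_iff, Invol.mem_map_conj_iff]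
  rw [e]
  exact (h.stronglyEmbedded hn).2.2 g hg

theorem odd_orderOf_stab {b : Ω} (hb : b ≠ o) {d : G} (hd : d ∈ HN) (hdb : d • b = b) :
    Odd (orderOf d) := by
  refine (h.odd_card_stab hn hb).of_dvd_nat ?_
  have := orderOf_dvd_natCard (⟨d, mem_inf.mpr ⟨hd, mem_stabilizer_iff.mpr hdb⟩⟩ :
    ↥(HN ⊓ stabilizer G b))
  rwa [orderOf_mk] at this

/-- For each point there is an element of order `q - 1` fixing it and the base point, inverted by
an involution swapping the two. -/
theorem exists_real {b : Ω} (hb : b ≠ o) : ∃ y u : G, orderOf y = m ∧ y ∈ HN ∧ y • b = b ∧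
    orderOf u = 2 ∧ u • o = b ∧ u * y * u⁻¹ = y⁻¹ := by
  classical
  have hc := h.card_swap_eq hn b
  have h2 := h.mprime.two_le
  haveI : Nontrivial (SEmb.Swap o b) := Finite.one_lt_card_iff_nontrivial.mp (by omega)
  obtain ⟨⟨u, hu, hub⟩, ⟨v, hv, hvb⟩, hne⟩ := exists_pair_ne (SEmb.Swap o b)
  have hne' : u ≠ v := fun e => hne (Subtype.ext e)
  have hyo : (u * v) • o = o := by
    rw [← smul_smul, hvb, (SEmb.smul_invol_eq_iff hu _ _).mp hub]
  have hyb : (u * v) • b = b := by
    rw [← smul_smul, (SEmb.smul_invol_eq_iff hv _ _).mp hvb, hub]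
  have hyN : u * v ∈ HN := (SEmb.smul_one_eq_iff _).mp hyo
  have hinv : u * (u * v) * u⁻¹ = (u * v)⁻¹ := by
    rw [mul_inv_rev, Invol.inv_eq_self hu, Invol.inv_eq_self hv, ← mul_assoc,
      Invol.mul_self_eq_one hu, one_mul]
  have hy1 : u * v ≠ 1 := fun e => hne' (by
    have := eq_inv_of_mul_eq_one_left e
    rw [this, Invol.inv_eq_self hv])
  refine ⟨u * v, u, ?_, hyN, hyb, hu, hub, hinv⟩
  obtain ⟨t, ht, ht1⟩ := h.exists_invol
  have hpow : (u * v) ^ m = 1 := by
    by_contra hne1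
    exact h.real.false_of_commute hne1
      (h.odd_orderOf_stab hn hb (pow_mem hyN _)
        (mem_stabilizer_iff.mp (pow_mem (mem_stabilizer_iff.mpr hyb) _)))
      hu (inv_pow_of_inverts hinv _) (h.orderOf_mem ht ht1) (h.pow_m_mem hn hyN t ht)
  exact (h.mprime.eq_one_or_self_of_dvd _ (orderOf_dvd_of_pow_eq_one hpow)).resolve_left
    (fun e => hy1 (orderOf_eq_one_iff.mp e))

theorem exists_ne_base : ∃ b : Ω, b ≠ o := by
  by_contra hne
  push Not at hne
  exact h.normalizer_ne_top hn ((eq_top_iff' _).mpr fun g => by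
    simpa using QuotientGroup.eq.mp (hne (QuotientGroup.mk g)).symm)

theorem exists_real_global : ∃ y u : G, orderOf y = m ∧ orderOf u = 2 ∧ u * y * u⁻¹ = y⁻¹ := by
  obtain ⟨b, hb⟩ := h.exists_ne_base hn
  obtain ⟨y, u, hy, -, -, hu, -, hinv⟩ := h.exists_real hn hb
  exact ⟨y, u, hy, hu, hinv⟩

theorem not_commute_invol {x t : G} (hx : orderOf x = m) (ht : orderOf t = 2) : ¬ Commute t x := by
  intro hc
  obtain ⟨y, u, hy, hu, hinv⟩ := h.exists_real_global hn
  refine h.real m h.mprime ?_ x t hx ht hc y u hy hu hinv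
  intro e
  have := h.m_odd hn
  rw [e] at this
  exact absurd this (by decide)

theorem odd_centralizer {x : G} (hx : orderOf x = m) :
    Odd (Nat.card (centralizer ({x} : Set G))) := by
  rw [← Nat.not_even_iff_odd]
  intro hev
  obtain ⟨t, ht, ht2⟩ := Invol.exists_orderOf_two_of_even_card hev
  exact h.not_commute_invol hn hx ht2 (mem_centralizer_singleton_iff.mp ht)

theorem notMem_centralizer {x : G} (hx : orderOf x = m) : x ∉ HC := by
  intro hxC
  obtain ⟨t, ht, ht1⟩ := h.exists_invol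
  exact h.not_commute_invol hn hx (h.orderOf_mem ht ht1) (hxC t ht)

theorem not_dvd_card_centralizer : ¬ m ∣ Nat.card HC := by
  intro hdvd
  haveI : Fact (m).Prime := ⟨h.mprime⟩
  obtain ⟨x, hx⟩ := exists_prime_orderOf_dvd_card' m hdvd
  exact h.notMem_centralizer hn ((orderOf_coe x).trans hx) x.2

theorem centralizer_le_normalizer' : HC ≤ HN := centralizer_le_normalizer _

theorem card_normalizer : Nat.card HN = Nat.card HC * m := by
  rw [← h.relIndex_centralizer hn, relIndex]
  rw [← Nat.card_congr (subgroupOfEquivOfLe (h.centralizer_le_normalizer' hn)).toEquiv]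
  exact (card_mul_index _).symm

/-- Two elements of order `q - 1` in a subgroup of the normaliser generate conjugate subgroups. -/
theorem conj_of_order_m {K : Subgroup G} (hK : K ≤ HN) {y y' : G} (hy : orderOf y = m)
    (hy' : orderOf y' = m) (hyK : y ∈ K) (hy'K : y' ∈ K) :
    ∃ k ∈ K, k * y * k⁻¹ ∈ zpowers y' := by
  classical
  haveI : Fact (m).Prime := ⟨h.mprime⟩
  have hsq : (Nat.card K).factorization m ≤ 1 := by
    by_contra hlt
    have h1 : m ^ 2 ∣ Nat.card K :=
      (pow_dvd_pow m (not_le.mp hlt)).trans (Nat.ordProj_dvd _ _)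
    have h2 := h1.trans (card_dvd_of_le hK)
    rw [h.card_normalizer hn, pow_two] at h2
    exact h.not_dvd_card_centralizer hn
      (Nat.dvd_of_mul_dvd_mul_right h.mprime.pos h2)
  have hfac : ∀ z : K, orderOf z = m →
      Nat.card (zpowers z) = m ^ (Nat.card K).factorization m := by
    intro z hz
    have h1 : 1 ≤ (Nat.card K).factorization m :=
      h.mprime.factorization_pos_of_dvd (Nat.card_pos).ne' (hz ▸ orderOf_dvd_natCard z)
    rw [Nat.card_zpowers, hz, show (Nat.card K).factorization m = 1 by omega, pow_one]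
  let P : Sylow m K := Sylow.ofCard (zpowers ⟨y, hyK⟩) (hfac _ ((orderOf_mk y hyK).trans hy))
  let Q : Sylow m K := Sylow.ofCard (zpowers ⟨y', hy'K⟩) (hfac _ ((orderOf_mk y' hy'K).trans hy'))
  obtain ⟨k, hk⟩ := exists_smul_eq K P Q
  refine ⟨k, k.2, ?_⟩
  have hmem : k * ⟨y, hyK⟩ * k⁻¹ ∈ (Q : Subgroup K) := by
    rw [← hk]
    exact ⟨⟨y, hyK⟩, mem_zpowers _, rfl⟩
  obtain ⟨i, hi⟩ := mem_zpowers_iff.mp hmem
  exact mem_zpowers_iff.mpr ⟨i, by simpa using congrArg Subtype.val hi⟩

theorem commute_of_normalizes {y n : G} (hy : orderOf y = m) (hyN : y ∈ HN) (hn' : n ∈ HN)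
    (hnorm : n * y * n⁻¹ ∈ zpowers y) : Commute n y := by
  classical
  haveI := normal_centralizer_subgroupOf (S : Subgroup G)
  haveI : Fact (m).Prime := ⟨h.mprime⟩
  have hcard : Nat.card (HN ⧸ (HC).subgroupOf HN) = m := h.relIndex_centralizer hn
  haveI : IsCyclic (HN ⧸ (HC).subgroupOf HN) := isCyclic_of_prime_card hcard
  have hcomm : ∀ a b : HN ⧸ (HC).subgroupOf HN, a * b = b * a := fun a b =>
    (IsCyclic.isMulCommutative (α := HN ⧸ (HC).subgroupOf HN)).is_comm.comm a b
  set z := n * y * n⁻¹ * y⁻¹ with hz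
  have hzC : z ∈ HC := by
    have e : (QuotientGroup.mk ((⟨n, hn'⟩ : HN) * ⟨y, hyN⟩ * ⟨n, hn'⟩⁻¹ * ⟨y, hyN⟩⁻¹) :
        HN ⧸ (HC).subgroupOf HN) = 1 := by
      rw [QuotientGroup.mk_mul, QuotientGroup.mk_mul, QuotientGroup.mk_mul,
        hcomm (QuotientGroup.mk (⟨n, hn'⟩ : HN))]
      simp
    rw [QuotientGroup.eq_one_iff, mem_subgroupOf] at e
    exact e
  have hzy : z ∈ zpowers y := mul_mem hnorm (inv_mem (mem_zpowers y))
  have hz1 : z = 1 := by
    by_contra hne
    have hord : orderOf z = m := by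
      have hd : orderOf z ∣ m := hy ▸ orderOf_dvd_of_mem_zpowers hzy
      exact (h.mprime.eq_one_or_self_of_dvd _ hd).resolve_left
        (fun e => hne (orderOf_eq_one_iff.mp e))
    exact h.notMem_centralizer hn hord hzC
  exact mul_inv_eq_iff_eq_mul.mp (mul_inv_eq_one.mp hz1)

/-- An involution swapping the base point with another fixed point of `y` and inverting `y`. -/
theorem exists_swap_inverting {y : G} (hy : orderOf y = m) (hyN : y ∈ HN) {b : Ω} (hb : b ≠ o)
    (hyb : y • b = b) : ∃ u : G, orderOf u = 2 ∧ u • o = b ∧ u * y * u⁻¹ = y⁻¹ := by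
  obtain ⟨y', v, hy', hy'N, hy'b, hv, hvb, hvinv⟩ := h.exists_real hn hb
  obtain ⟨e, he, hey⟩ := h.conj_of_order_m hn (inf_le_left : HN ⊓ stabilizer G b ≤ HN) hy hy'
    (mem_inf.mpr ⟨hyN, mem_stabilizer_iff.mpr hyb⟩)
    (mem_inf.mpr ⟨hy'N, mem_stabilizer_iff.mpr hy'b⟩)
  obtain ⟨i, hi⟩ := mem_zpowers_iff.mp hey
  obtain ⟨heN, heb⟩ := mem_inf.mp he
  refine ⟨e⁻¹ * v * e, ?_, ?_, ?_⟩
  · have := Invol.orderOf_conj e⁻¹ v
    rw [inv_inv] at this
    rw [this, hv]
  · rw [mul_smul, (SEmb.smul_one_eq_iff e).mpr heN, mul_smul, hvb]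
    exact mem_stabilizer_iff.mp (inv_mem heb)
  · have hvi : v * y' ^ i * v⁻¹ = (y' ^ i)⁻¹ := by
      rw [← conj_zpow, hvinv, inv_zpow]
    rw [hi] at hvi
    calc e⁻¹ * v * e * y * (e⁻¹ * v * e)⁻¹ = e⁻¹ * (v * (e * y * e⁻¹) * v⁻¹) * e := by group
      _ = y⁻¹ := by rw [hvi]; group

theorem fix_base_of_commute {y c : G} (hy : orderOf y = m) (hyN : y ∈ HN) (hc : Commute c y) :
    c • o = o := by
  by_contra hne
  have hyc : y • (c • o) = c • o := by
    rw [smul_smul, ← hc.eq, ← smul_smul, (SEmb.smul_one_eq_iff y).mpr hyN]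
  obtain ⟨u, hu, huo, huinv⟩ := h.exists_swap_inverting hn hy hyN hne hyc
  have hn0 : c⁻¹ * u ∈ HN := (SEmb.smul_one_eq_iff _).mp (by
    rw [← smul_smul, huo, inv_smul_smul])
  have hconj : c⁻¹ * u * y * (c⁻¹ * u)⁻¹ = y⁻¹ := by
    calc c⁻¹ * u * y * (c⁻¹ * u)⁻¹ = c⁻¹ * (u * y * u⁻¹) * c := by group
      _ = c⁻¹ * y⁻¹ * c := by rw [huinv]
      _ = y⁻¹ := by rw [mul_assoc, ← (hc.inv_right).eq, inv_mul_cancel_left]
  have hcomm := h.commute_of_normalizes hn hy hyN hn0
    (hconj ▸ inv_mem (mem_zpowers y))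
  have h1 := eq_one_of_inverted_and_fixed (hy ▸ h.m_odd hn) hconj hcomm
  rw [h1, orderOf_one] at hy
  exact h.mprime.one_lt.ne hy

/-- An element of order `q - 1` fixes at most one point besides the base point. -/
theorem fixed_unique {y : G} (hy : orderOf y = m) (hyN : y ∈ HN) {b b' : Ω} (hb : b ≠ o)
    (hyb : y • b = b) (hb' : b' ≠ o) (hyb' : y • b' = b') : b = b' := by
  obtain ⟨u, hu, huo, huinv⟩ := h.exists_swap_inverting hn hy hyN hb hyb
  obtain ⟨v, hv, hvo, hvinv⟩ := h.exists_swap_inverting hn hy hyN hb' hyb'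
  have hconj : ∀ c : G, Commute c y → Commute (u⁻¹ * c * u) y := by
    intro c hc
    have e1 : u * y = y⁻¹ * u := by rw [← huinv]; group
    calc u⁻¹ * c * u * y = u⁻¹ * (c * (u * y)) := by group
      _ = u⁻¹ * (c * y⁻¹ * u) := by rw [e1]; group
      _ = u⁻¹ * (y⁻¹ * c * u) := by rw [hc.inv_right.eq]
      _ = (u⁻¹ * y⁻¹ * u) * (u⁻¹ * c * u) := by group
      _ = y * (u⁻¹ * c * u) := by
        congr 1
        rw [← huinv]; group
  have hvu : Commute (v * u) y := by
    show v * u * y = y * (v * u)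
    have e1 : u * y = y⁻¹ * u := by rw [← huinv]; group
    have e2 : v * y⁻¹ = y * v := by
      have e3 : v * y⁻¹ * v⁻¹ = y := by rw [← conj_inv, hvinv, inv_inv]
      nth_rewrite 2 [← e3]; group
    rw [mul_assoc, e1, ← mul_assoc, e2, mul_assoc]
  have hfix : (v * u) • b = b := by
    have := h.fix_base_of_commute hn hy hyN (hconj _ hvu)
    rw [mul_smul, huo, mul_smul] at this
    rw [← huo]
    conv_lhs => rw [huo]
    rw [inv_smul_eq_iff] at this
    rw [huo] at this ⊢
    exact this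
  rw [← hfix, mul_smul, (SEmb.smul_invol_eq_iff hu _ _).mp huo, hvo]

/-- The normaliser is transitive on the points different from the base point. -/
theorem exists_smul_eq_of_ne {b b' : Ω} (hb : b ≠ o) (hb' : b' ≠ o) :
    ∃ n ∈ HN, n • b = b' := by
  obtain ⟨y, -, hy, hyN, hyb, -, -, -⟩ := h.exists_real hn hb
  obtain ⟨y', -, hy', hy'N, hy'b, -, -, -⟩ := h.exists_real hn hb'
  obtain ⟨n, hn', hny⟩ := h.conj_of_order_m hn le_rfl hy hy' hyN hy'N
  refine ⟨n, hn', h.fixed_unique hn hy' hy'N (fun e => hb ?_) ?_ hb' hy'b⟩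
  · rw [eq_inv_smul_iff.mpr e]
    exact (SEmb.smul_one_eq_iff _).mpr (inv_mem hn')
  · haveI : Fact (m).Prime := ⟨h.mprime⟩
    obtain ⟨i, hi⟩ := mem_zpowers_iff.mp hny
    have hne : n * y * n⁻¹ ≠ 1 := fun e => by
      rw [conj_eq_one_iff] at e
      rw [e, orderOf_one] at hy
      exact h.mprime.one_lt.ne hy
    have hy'mem : y' ∈ zpowers (n * y * n⁻¹) := by
      have hle : zpowers (n * y * n⁻¹) ≤ zpowers y' := zpowers_le.mpr hny
      have heq := eq_of_le_of_card_ge hle (by
        rw [Nat.card_zpowers, Nat.card_zpowers, Invol.orderOf_conj, hy, hy'])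
      exact heq.symm ▸ mem_zpowers y'
    obtain ⟨j, hj⟩ := mem_zpowers_iff.mp hy'mem
    rw [← hj]
    refine mem_stabilizer_iff.mp (zpow_mem (mem_stabilizer_iff.mpr ?_) j)
    rw [mul_smul, mul_smul, inv_smul_smul, hyb]

theorem card_stab {b : Ω} (hb : b ≠ o) :
    Nat.card ↥(HN ⊓ stabilizer G b) = m * Nat.card ↥(HC ⊓ stabilizer G b) := by
  obtain ⟨y, -, hy, hyN, hyb, -, -, -⟩ := h.exists_real hn hb
  haveI := normal_centralizer_subgroupOf (S : Subgroup G)
  set D := HN ⊓ stabilizer G b with hD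
  set E := HC ⊓ stabilizer G b with hE
  have hED : E ≤ D := inf_le_inf_right _ (h.centralizer_le_normalizer' hn)
  have hidx : E.relIndex D = m := by
    have e : E.relIndex D = (HC).relIndex D := by
      rw [← inf_relIndex_right (HC) D]
      congr 1
      rw [hE, hD, ← inf_assoc, inf_eq_left.mpr (h.centralizer_le_normalizer' hn)]
    rw [e]
    have hd : (HC).relIndex D ∣ m := by
      have e2 := relIndex_dvd_index_of_normal ((HC).subgroupOf HN) (D.subgroupOf HN)
      rw [relIndex_subgroupOf inf_le_left] at e2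
      exact h.relIndex_centralizer hn ▸ e2
    refine (h.mprime.eq_one_or_self_of_dvd _ hd).resolve_left fun e1 => ?_
    exact h.notMem_centralizer hn hy
      (relIndex_eq_one.mp e1 (mem_inf.mpr ⟨hyN, mem_stabilizer_iff.mpr hyb⟩))
  rw [← hidx, relIndex, mul_comm, ← Nat.card_congr (subgroupOfEquivOfLe hED).toEquiv]
  exact (card_mul_index _).symm

theorem card_points {b : Ω} (hb : b ≠ o) :
    (Nat.card Ω - 1) * Nat.card ↥(HC ⊓ stabilizer G b) = Nat.card HC := by
  classical
  have horb : orbit HN b = {x | x ≠ o} := by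
    ext x
    constructor
    · rintro ⟨n, rfl⟩ e
      refine hb ?_
      change (n : G) • b = o at e
      rw [eq_inv_smul_iff.mpr e]
      exact (SEmb.smul_one_eq_iff _).mpr (inv_mem n.2)
    · intro hx
      obtain ⟨n, hn', hnb⟩ := h.exists_smul_eq_of_ne hn hb hx
      exact ⟨⟨n, hn'⟩, hnb⟩
  have hcard : Nat.card (orbit HN b) = Nat.card Ω - 1 := by
    rw [horb]
    haveI : Fintype Ω := Fintype.ofFinite _
    show Nat.card {x : Ω // x ≠ o} = _
    simp [Nat.card_eq_fintype_card, Fintype.card_subtype_compl]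
  have hstab : Nat.card (stabilizer HN b) = Nat.card ↥(HN ⊓ stabilizer G b) := by
    have e : stabilizer HN b = (HN ⊓ stabilizer G b).subgroupOf HN := by
      ext n
      rw [mem_stabilizer_iff, mem_subgroupOf, mem_inf, mem_stabilizer_iff]
      exact ⟨fun e => ⟨n.2, e⟩, fun e => e.2⟩
    rw [e]
    exact Nat.card_congr (subgroupOfEquivOfLe inf_le_left).toEquiv
  have key : Nat.card (orbit HN b) * Nat.card (stabilizer HN b) = Nat.card HN := by
    rw [← Nat.card_prod]
    exact Nat.card_congr (orbitProdStabilizerEquivGroup HN b)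
  rw [hcard, hstab, h.card_stab hn hb, h.card_normalizer hn, mul_comm (m), ← mul_assoc] at key
  exact Nat.eq_of_mul_eq_mul_right h.mprime.pos key

end Hyp

end CfsgLib.TIElem
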