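import Mathlib.LinearAlgebra.Matrix.SpecialLinearGroup
import Cfsg.Prelude.Def_CaseTheorems
import Cfsg.Agent.Lib.TIElem.Pair
import Cfsg.Agent.Lib.Solvable.Core
import Cfsg.Agent.Lib.Solvable.CoprimeGeneration

/-!
# The odd part of the centraliser of the Sylow 2-subgroup
-/

set_option autoImplicit false
set_option linter.unusedSectionVars false
set_option linter.style.haveILetI false

namespace CfsgLib.TIElem

open MulAction Subgroup

universe u

/-- The conclusion: the odd part of `C(S)` lies in the odd core and the factor by the odd core is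
`SL(2, q)`. -/
def Good {G : Type u} [Group G] (S : Sylow 2 G) : Prop :=
  (∀ x ∈ centralizer ((S : Subgroup G) : Set G), Odd (orderOf x) → x ∈ Cfsg.oddCore G) ∧
    ∃ (F : Type) (_ : Field F) (_ : Fintype F), Fintype.card F = Nat.card (S : Subgroup G) ∧
      ∃ φ : G →* Matrix.SpecialLinearGroup (Fin 2) F, Function.Surjective φ ∧
        φ.ker = Cfsg.oddCore G

/-- The induction hypothesis: the conclusion for proper subgroups. -/
def GoodBelow (G : Type u) [Group G] : Prop :=
  ∀ H : Subgroup G, H ≠ ⊤ → ∀ P : Sylow 2 H, Hyp P → ¬ (P : Subgroup H).Normal → Good P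

theorem odd_card_oddCore {G : Type u} [Group G] [Finite G] :
    Odd (Nat.card (Cfsg.oddCore G)) :=
  Nat.coprime_two_right.mp (Solvable.pPrimeCore_card_coprime 2 G)

theorem le_oddCore {G : Type u} [Group G] {N : Subgroup G} (hn : N.Normal)
    (ho : Odd (Nat.card N)) : N ≤ Cfsg.oddCore G :=
  Solvable.le_pPrimeCore hn (Nat.coprime_two_right.mpr ho)

theorem NoMixedPrime.subgroup {G : Type u} [Group G] (hG : NoMixedPrime G) (H : Subgroup G) :
    NoMixedPrime H := fun p hp hp2 x u hx hu hc y v hy hv hi =>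
  hG p hp hp2 x u ((orderOf_coe x).trans hx) ((orderOf_coe u).trans hu)
    (congrArg Subtype.val hc) y v ((orderOf_coe y).trans hy) ((orderOf_coe v).trans hv)
    (congrArg Subtype.val hi)

namespace Hyp

variable {G : Type u} [Group G] {S : Sylow 2 G} (h : Hyp S)
include h

theorem card_subtype_sylow {H : Subgroup G} (hSH : (S : Subgroup G) ≤ H) :
    Nat.card (S.subtype hSH : Subgroup H) = Nat.card (S : Subgroup G) := by
  rw [Sylow.coe_subtype]
  exact Nat.card_congr (subgroupOfEquivOfLe hSH).toEquiv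

theorem subgroup {H : Subgroup G} (hSH : (S : Subgroup G) ≤ H) : Hyp (S.subtype hSH) where
  elem s hs := Subtype.ext (h.elem s hs)
  cent t ht h1 x hx s hs := by
    refine Subtype.ext (h.cent t ht (fun e => h1 (Subtype.ext e)) ?_ s hs)
    rw [mem_centralizer_singleton_iff] at hx ⊢
    exact congrArg Subtype.val hx
  mprime := by rw [h.card_subtype_sylow hSH]; exact h.mprime
  real := h.real.subgroup H

theorem not_cyclic : ¬ IsCyclic (S : Subgroup G) := by
  intro hc
  have h4 := h.four_le
  haveI : Finite (S : Subgroup G) := Nat.finite_of_card_ne_zero (by omega)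
  obtain ⟨g, hg⟩ := hc.exists_generator
  have hle : orderOf g ∣ 2 := orderOf_dvd_of_pow_eq_one (Subtype.ext (by
    rw [SubmonoidClass.coe_pow, pow_two]; exact h.elem g g.2))
  have := Nat.le_of_dvd two_pos hle
  rw [orderOf_eq_card_of_forall_mem_zpowers hg] at this
  omega

variable [Finite G]

/-- A conjugate of `S` centralises every subgroup of odd order that it normalises. -/
theorem le_centralizer_conj (g : G) {O : Subgroup G} (ho : Odd (Nat.card O))
    (hnorm : (S : Subgroup G).map (MulAut.conj g).toMonoidHom ≤ normalizer (O : Set G)) :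
    O ≤ centralizer ((S : Subgroup G).map (MulAut.conj g).toMonoidHom : Set G) := by
  set A := (S : Subgroup G).map (MulAut.conj g).toMonoidHom with hA
  haveI : IsMulCommutative A := by
    refine ⟨⟨fun a b => Subtype.ext ?_⟩⟩
    obtain ⟨x, hx, ex⟩ := a.2
    obtain ⟨y, hy, ey⟩ := b.2
    show (a : G) * b = b * a
    rw [← ex, ← ey, ← map_mul, ← map_mul, h.comm hx hy]
  have hnc : ¬ IsCyclic A := fun hc => h.not_cyclic
    (((S : Subgroup G).equivMapOfInjective _ (MulEquiv.injective _)).isCyclic.mpr hc)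
  have hcop : (Nat.card A).Coprime (Nat.card O) := by
    obtain ⟨a, ha⟩ := (S.2.map _ : IsPGroup 2 A).exists_card_eq
    rw [ha]
    exact Nat.Coprime.pow_left _ (Nat.coprime_two_left.mpr ho)
  refine (Solvable.le_of_centralizer_le (W := O ⊓ centralizer (A : Set G)) hnc hnorm hcop ?_).trans
    inf_le_right
  rintro a ha ha1 x ⟨hxO, hxa⟩
  refine ⟨hxO, ?_⟩
  obtain ⟨t, ht, rfl⟩ := ha
  rintro _ ⟨s, hs, rfl⟩
  have hc : g⁻¹ * x * g ∈ centralizer ({t} : Set G) := by
    rw [mem_centralizer_singleton_iff]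
    have e := mem_centralizer_singleton_iff.mp hxa
    simp only [MulEquiv.coe_toMonoidHom, MulAut.conj_apply] at e
    calc g⁻¹ * x * g * t = g⁻¹ * (x * (g * t * g⁻¹)) * g := by group
      _ = g⁻¹ * ((g * t * g⁻¹) * x) * g := by rw [e]
      _ = t * (g⁻¹ * x * g) := by group
  have e := h.cent t ht (fun e => ha1 (by rw [e, map_one])) hc s hs
  simp only [MulEquiv.coe_toMonoidHom, MulAut.conj_apply]
  calc g * s * g⁻¹ * x = g * (s * (g⁻¹ * x * g)) * g⁻¹ := by group
    _ = g * ((g⁻¹ * x * g) * s) * g⁻¹ := by rw [e]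
    _ = x * (g * s * g⁻¹) := by group

theorem le_centralizer_of_le_normalizer {O : Subgroup G} (ho : Odd (Nat.card O))
    (hnorm : (S : Subgroup G) ≤ normalizer (O : Set G)) :
    O ≤ centralizer ((S : Subgroup G) : Set G) := by
  have e : (S : Subgroup G).map (MulAut.conj (1 : G)).toMonoidHom = S := by ext x; simp
  have := h.le_centralizer_conj 1 ho (e.symm ▸ hnorm)
  rwa [e] at this

theorem exists_oddPart : ∃ W : Subgroup G, W ≤ centralizer ((S : Subgroup G) : Set G) ∧
    (∀ x, x ∈ W ↔ x ∈ centralizer ((S : Subgroup G) : Set G) ∧ Odd (orderOf x)) ∧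
    Nat.card (centralizer ((S : Subgroup G) : Set G)) =
      Nat.card (S : Subgroup G) * Nat.card W ∧ Odd (Nat.card W) := by
  classical
  set C := centralizer ((S : Subgroup G) : Set G) with hC
  haveI : Fact (Nat.Prime 2) := ⟨Nat.prime_two⟩
  have hSC : (S : Subgroup G) ≤ C := h.le_centralizer
  set SC := (S : Subgroup G).subgroupOf C with hSCdef
  haveI : SC.Normal := ⟨fun s hs c => by
    have e : (c : G) * s * (c : G)⁻¹ = s := by
      rw [← c.2 (s : G) hs, mul_inv_cancel_right]
    show (c : G) * s * (c : G)⁻¹ ∈ (S : Subgroup G)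
    rw [e]; exact hs⟩
  have hidx : Odd SC.index := by
    refine Nat.not_even_iff_odd.mp fun hev => S.not_dvd_index ?_
    exact (even_iff_two_dvd.mp hev).trans (relIndex_dvd_index_of_le hSC)
  have hcardS : Nat.card SC = Nat.card (S : Subgroup G) :=
    Nat.card_congr (subgroupOfEquivOfLe hSC).toEquiv
  have hcop : (Nat.card SC).Coprime SC.index := by
    obtain ⟨a, ha⟩ := (S.2 : IsPGroup 2 (S : Subgroup G)).exists_card_eq
    rw [hcardS, ha]
    exact Nat.Coprime.pow_left _ (Nat.coprime_two_left.mpr hidx)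
  obtain ⟨K, hK⟩ := exists_right_complement'_of_coprime (N := SC) hcop
  have hKodd : Odd (Nat.card K) := by rw [← hK.symm.index_eq_card]; exact hidx
  have hWK : Nat.card (K.map C.subtype) = Nat.card K :=
    card_map_of_injective C.subtype_injective
  refine ⟨K.map C.subtype, map_subtype_le K, fun x => ⟨fun hx => ⟨map_subtype_le K hx, ?_⟩, ?_⟩,
    ?_, hWK ▸ hKodd⟩
  · refine (hWK ▸ hKodd).of_dvd_nat ?_
    have := orderOf_dvd_natCard (⟨x, hx⟩ : K.map C.subtype)
    rwa [orderOf_mk] at this
  · rintro ⟨hxC, hxodd⟩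
    obtain ⟨⟨s, w⟩, hsw, -⟩ := isComplement'_def.mp hK |>.existsUnique ⟨x, hxC⟩
    have hs : ((s : C) : G) ∈ (S : Subgroup G) := s.2
    have e : ((s : C) : G) * ((w : C) : G) = x := congrArg Subtype.val hsw
    have hcomm : Commute ((s : C) : G) ((w : C) : G) := (w : C).2 _ hs
    have hw : ((w : C) : G) ^ Nat.card K = 1 := by
      rw [← SubmonoidClass.coe_pow, ← SubmonoidClass.coe_pow, pow_card_eq_one']
      rfl
    have hs2 : ((s : C) : G) ^ Nat.card K = ((s : C) : G) := by
      obtain ⟨j, hj⟩ := hKodd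
      rw [hj, pow_succ, pow_mul, pow_two, h.elem _ hs, one_pow, one_mul]
    have hxs : x ^ Nat.card K = ((s : C) : G) := by
      rw [← e, hcomm.mul_pow, hw, hs2, mul_one]
    have hs1 : ((s : C) : G) = 1 := by
      by_contra hne
      have h2 := h.orderOf_mem hs hne
      rw [← hxs] at h2
      exact absurd (hxodd.of_dvd_nat (orderOf_pow_dvd (x := x) (Nat.card K)))
        (by rw [h2]; decide)
    rw [hs1, one_mul] at e
    exact ⟨(w : C), w.2, e⟩
  · rw [hWK, ← hK.symm.index_eq_card, ← hcardS, card_mul_index]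

variable (hn : ¬ (S : Subgroup G).Normal)
include hn

/-- An odd element of `C(S)` fixing a second point centralises the second Sylow subgroup. -/
theorem conj_mem_centralizer {g : G} {c : G} (hc : c ∈ centralizer ((S : Subgroup G) : Set G))
    (hco : Odd (orderOf c))
    (hfix : c • (QuotientGroup.mk g : G ⧸ normalizer ((S : Subgroup G) : Set G)) =
      QuotientGroup.mk g) :
    g⁻¹ * c * g ∈ centralizer ((S : Subgroup G) : Set G) := by
  have hN : g⁻¹ * c * g ∈ normalizer ((S : Subgroup G) : Set G) :=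
    (SEmb.smul_mk_eq_iff _ _).mp hfix
  have hord : orderOf (g⁻¹ * c * g) = orderOf c := by
    simpa using Invol.orderOf_conj g⁻¹ c
  have hcop : (orderOf c).Coprime (Nat.card (S : Subgroup G) - 1) := by
    refine ((Nat.Prime.coprime_iff_not_dvd h.mprime).mpr fun hd => ?_).symm
    exact h.not_dvd_card_centralizer hn (hd.trans (by
      have := orderOf_dvd_natCard (⟨c, hc⟩ : centralizer ((S : Subgroup G) : Set G))
      rwa [orderOf_mk] at this))
  obtain ⟨j, hj⟩ := exists_pow_eq_self_of_coprime (hord.symm ▸ hcop.symm : Nat.Coprime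
    (Nat.card (S : Subgroup G) - 1) (orderOf (g⁻¹ * c * g)))
  rw [← hj]
  exact pow_mem (h.pow_m_mem hn hN) _

/-- In a proper subgroup containing two Sylow 2-subgroups, an odd element centralising one of them
centralises the other. -/
theorem fix_of_mem_proper (hIH : GoodBelow G) {H : Subgroup G} (hH : H ≠ ⊤)
    (hSH : (S : Subgroup G) ≤ H) {g : G}
    (hgH : (S : Subgroup G).map (MulAut.conj g).toMonoidHom ≤ H)
    (hg : g ∉ normalizer ((S : Subgroup G) : Set G)) {c : G}
    (hc : c ∈ centralizer ((S : Subgroup G) : Set G)) (hcH : c ∈ H) (hco : Odd (orderOf c)) :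
    c • (QuotientGroup.mk g : G ⧸ normalizer ((S : Subgroup G) : Set G)) = QuotientGroup.mk g := by
  haveI : Fact (Nat.Prime 2) := ⟨Nat.prime_two⟩
  set P := S.subtype hSH
  have hPn : ¬ (P : Subgroup H).Normal := by
    intro hnormal
    refine hg (mem_normalizer_iff.mpr ?_)
    have hnormal' : ((S : Subgroup G).subgroupOf H).Normal := Sylow.coe_subtype S hSH ▸ hnormal
    have hle : (S : Subgroup G).map (MulAut.conj g).toMonoidHom ≤ S := by
      have hnH : H ≤ normalizer ((S : Subgroup G) : Set G) :=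
        (normal_subgroupOf_iff_le_normalizer hSH).mp hnormal'
      have hsup : IsPGroup 2
          ↥((S : Subgroup G).map (MulAut.conj g).toMonoidHom ⊔ (S : Subgroup G)) :=
        IsPGroup.to_sup_of_normal_right' (S.2.map _) S.2 (hgH.trans hnH)
      exact le_sup_left.trans (S.3 hsup le_sup_right).le
    have heq := eq_of_le_of_card_ge hle
      (by rw [card_map_of_injective (MulEquiv.injective _)])
    intro x
    conv_rhs => rw [← heq]
    rw [← mem_map_iff_mem (f := (MulAut.conj g).toMonoidHom) (MulEquiv.injective _)]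
    rfl
  have hmem : (⟨c, hcH⟩ : H) ∈ Cfsg.oddCore H :=
    (hIH H hH P (h.subgroup hSH) hPn).1 _ (fun s hs => Subtype.ext (hc s hs))
      (by rwa [orderOf_mk])
  set O := (Cfsg.oddCore H).map H.subtype
  have hO : Odd (Nat.card O) := by
    rw [card_map_of_injective H.subtype_injective]
    exact odd_card_oddCore
  have hHO : H ≤ normalizer (O : Set G) := by
    haveI : (Cfsg.oddCore H).Normal := Solvable.pPrimeCore_normal 2 H
    intro x hx
    refine mem_normalizer_iff.mpr fun y => ⟨?_, ?_⟩
    · rintro ⟨z, hz, rfl⟩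
      exact ⟨⟨x, hx⟩ * z * ⟨x, hx⟩⁻¹, Normal.conj_mem inferInstance _ hz _, by simp⟩
    · rintro ⟨z, hz, e⟩
      refine ⟨⟨x, hx⟩⁻¹ * z * ⟨x, hx⟩⁻¹⁻¹, Normal.conj_mem inferInstance _ hz _, ?_⟩
      simp [show H.subtype z = (z : G) from rfl] at e ⊢
      rw [e]; group
  have hcO : c ∈ centralizer ((S : Subgroup G).map (MulAut.conj g).toMonoidHom : Set G) :=
    h.le_centralizer_conj g hO (hgH.trans hHO) ⟨⟨c, hcH⟩, hmem, rfl⟩
  rw [SEmb.smul_mk_eq_iff]
  refine centralizer_le_normalizer _ fun s hs => ?_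
  have e := hcO _ ⟨s, hs, rfl⟩
  simp only [MulEquiv.coe_toMonoidHom, MulAut.conj_apply] at e
  calc s * (g⁻¹ * c * g) = g⁻¹ * ((g * s * g⁻¹) * c) * g := by group
    _ = g⁻¹ * (c * (g * s * g⁻¹)) * g := by rw [e]
    _ = g⁻¹ * c * g * s := by group

end Hyp

end CfsgLib.TIElem
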