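import Cfsg.Agent.Lib.TIElem.Zass
import Cfsg.Agent.Lib.SEmb.ZassenhausSL2

/-!
# Groups with trivially intersecting elementary abelian Sylow 2-subgroups and no mixed prime

`good`: the odd part of the centraliser of the Sylow 2-subgroup lies in the odd core and the
factor group by the odd core is `SL(2, q)`.
-/

set_option autoImplicit false
set_option linter.unusedSectionVars false
set_option linter.style.haveILetI false

namespace CfsgLib.TIElem

open MulAction Subgroup

universe u

variable {G : Type u} [Group G] [Finite G]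

theorem NoMixedPrime.map {H : Type*} [Group H] (hG : NoMixedPrime G) (φ : G →* H)
    (hφ : Function.Surjective φ) (hker : Odd (Nat.card φ.ker)) : NoMixedPrime H := by
  intro p hp hp2 x u hx hu hc y v hy hv hi
  obtain ⟨x, rfl⟩ := hφ x
  obtain ⟨u, rfl⟩ := hφ u
  obtain ⟨y, rfl⟩ := hφ y
  obtain ⟨v, rfl⟩ := hφ v
  obtain ⟨u', hu', hu''⟩ := exists_invol_lift φ hker hu
  obtain ⟨c, hcx, hcc⟩ := exists_commute_lift φ hker hu' (x := x) (by rw [hu'']; exact hc)
  have hd : p ∣ orderOf c := by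
    rw [← hx, ← hcx]; exact orderOf_map_dvd φ c
  obtain ⟨d, hd⟩ := hd
  have hd0 : d ≠ 0 := by rintro rfl; have := orderOf_pos c; rw [hd] at this; simp at this
  obtain ⟨k, w, hk, hw, hki⟩ := exists_inverted_prime φ hker hp hp2 hv hi (hy.symm.dvd)
  exact hG p hp hp2 (c ^ d) u'
    (by rw [orderOf_pow' c hd0, hd, Nat.gcd_mul_left_left, Nat.mul_div_cancel _ (Nat.pos_of_ne_zero hd0)])
    hu' (hcc.pow_right d) k w hk hw hki

theorem Hyp.card_quotient_map {S : Sylow 2 G} (h : Hyp S) (O : Subgroup G) [O.Normal]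
    (hO : Odd (Nat.card O)) :
    Nat.card ((S : Subgroup G).map (QuotientGroup.mk' O)) = Nat.card (S : Subgroup G) := by
  refine (Nat.card_eq_of_bijective (fun s : (S : Subgroup G) =>
    (⟨QuotientGroup.mk' O s, s, s.2, rfl⟩ : (S : Subgroup G).map (QuotientGroup.mk' O)))
    ⟨fun a b e => ?_, ?_⟩).symm
  · have e' : (QuotientGroup.mk' O) (a : G) = QuotientGroup.mk' O b := congrArg Subtype.val e
    by_contra hne
    have hab : (a : G)⁻¹ * b ≠ 1 := fun e => hne (Subtype.ext (eq_of_inv_mul_eq_one e))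
    have h2 := h.orderOf_mem (mul_mem (inv_mem a.2) b.2) hab
    have hmem : (a : G)⁻¹ * b ∈ O := QuotientGroup.eq.mp e'
    have := orderOf_dvd_natCard (⟨_, hmem⟩ : O)
    rw [orderOf_mk, h2] at this
    exact Nat.not_even_iff_odd.mpr hO (even_iff_two_dvd.mpr this)
  · rintro ⟨_, s, hs, rfl⟩
    exact ⟨⟨s, hs⟩, rfl⟩

theorem Hyp.quotient [Fact (Nat.Prime 2)] {S : Sylow 2 G} (h : Hyp S) (O : Subgroup G) [O.Normal]
    (hO : Odd (Nat.card O)) :
    Hyp (S.mapSurjective (QuotientGroup.mk'_surjective O)) where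
  elem := by
    rintro _ ⟨s, hs, rfl⟩
    rw [← map_mul, h.elem s hs, map_one]
  cent := by
    rintro _ ⟨t, ht, rfl⟩ h1 x hx
    obtain ⟨x, rfl⟩ := QuotientGroup.mk'_surjective O x
    have ht1 : t ≠ 1 := fun e => h1 (by rw [e, map_one])
    obtain ⟨c, hc, hct⟩ := exists_commute_lift (QuotientGroup.mk' O)
      (by rw [QuotientGroup.ker_mk']; exact hO) (h.orderOf_mem ht ht1)
      (x := x) (mem_centralizer_singleton_iff.mp hx).symm
    rintro _ ⟨s, hs, rfl⟩
    have e := h.cent t ht ht1 (mem_centralizer_singleton_iff.mpr hct.eq.symm) s hs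
    rw [← hc, ← map_mul, ← map_mul, e]
  mprime := by
    rw [Sylow.coe_mapSurjective, h.card_quotient_map O hO]; exact h.mprime
  real := h.real.map _ (QuotientGroup.mk'_surjective O) (by rw [QuotientGroup.ker_mk']; exact hO)

theorem Hyp.not_normal_quotient [Fact (Nat.Prime 2)] {S : Sylow 2 G} (h : Hyp S)
    (hn : ¬ (S : Subgroup G).Normal) (O : Subgroup G) [O.Normal] (hO : Odd (Nat.card O)) :
    ¬ ((S.mapSurjective (QuotientGroup.mk'_surjective O) : Sylow 2 (G ⧸ O)) :
      Subgroup (G ⧸ O)).Normal := by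
  intro hnormal
  rw [Sylow.coe_mapSurjective] at hnormal
  have hcent : O ≤ centralizer ((S : Subgroup G) : Set G) :=
    h.le_centralizer_of_le_normalizer hO fun s _ =>
      (normalizer_eq_top_iff.mpr ‹O.Normal›) ▸ mem_top s
  refine hn ⟨fun s hs g => ?_⟩
  obtain ⟨s', hs', e⟩ := hnormal.conj_mem _ (mem_map_of_mem _ hs) (QuotientGroup.mk' O g)
  rw [← map_inv, ← map_mul, ← map_mul] at e
  set r := s'⁻¹ * (g * s * g⁻¹) with hr
  have hrO : r ∈ O := QuotientGroup.eq.mp e
  have hc : s' * r = r * s' := hcent hrO s' hs'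
  have hr2 : r * r = 1 := by
    calc r * r = s' * s' * (r * r) := by rw [h.elem s' hs', one_mul]
      _ = s' * (s' * r) * r := by group
      _ = s' * (r * s') * r := by rw [hc]
      _ = (s' * r) * (s' * r) := by group
      _ = g * (s * s) * g⁻¹ := by rw [hr]; group
      _ = 1 := by rw [h.elem s hs, mul_one, mul_inv_cancel]
  have hr1 : r = 1 := by
    by_contra hne
    have := orderOf_dvd_natCard (⟨r, hrO⟩ : O)
    rw [orderOf_mk, Invol.orderOf_eq_two hne hr2] at this
    exact Nat.not_even_iff_odd.mpr hO (even_iff_two_dvd.mpr this)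
  rw [show g * s * g⁻¹ = s' * r by rw [hr]; group, hr1, mul_one]
  exact hs'

theorem good_aux (n : ℕ) : ∀ (G : Type u) [Group G] [Finite G], Nat.card G = n →
    ∀ S : Sylow 2 G, Hyp S → ¬ (S : Subgroup G).Normal → Good S := by
  induction n using Nat.strong_induction_on with
  | _ n ih =>
  intro G _ _ hcard S h hn
  haveI : Fact (Nat.Prime 2) := ⟨Nat.prime_two⟩
  haveI : (Cfsg.oddCore G).Normal := Solvable.pPrimeCore_normal 2 G
  by_cases hO : Cfsg.oddCore G = ⊥
  · have hIH : GoodBelow G := fun H hH P hP hPn => ih _ (hcard ▸ lt_of_le_of_ne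
      (card_le_card_group H) (fun e => hH (eq_top_of_card_eq H e))) H rfl P hP hPn
    obtain ⟨W, hWle, hW, hWC, hWodd⟩ := h.exists_oddPart
    have hW1 : W = ⊥ := by
      by_contra hne
      refine hne (h.eq_bot_of_semiregular hn hIH hO hWC hWodd fun b hb => ?_)
      exact (h.eq_bot_or_semiregular hn hIH hO hW hWodd hb).resolve_left hne
    have hCS : centralizer ((S : Subgroup G) : Set G) = S := by
      refine (eq_of_le_of_card_ge h.le_centralizer ?_).symm
      rw [hWC, hW1, card_bot, mul_one]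
    have hE : SEmb.ElemCent S := by
      refine ⟨h.not_cyclic, hn, fun u hu => ?_⟩
      obtain ⟨t, ht, ht1⟩ := h.exists_invol
      obtain ⟨g, hg⟩ := isConj_iff.mp (SEmb.isConj_invol (h.stronglyEmbedded hn) hu
        (h.orderOf_mem ht ht1))
      have key : ∀ c ∈ centralizer ({u} : Set G), g * c * g⁻¹ ∈ (S : Subgroup G) := fun c hc => by
        rw [← hCS]
        refine h.cent t ht ht1 ?_
        rw [mem_centralizer_singleton_iff, ← hg]
        calc g * c * g⁻¹ * (g * u * g⁻¹) = g * (c * u) * g⁻¹ := by group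
          _ = g * (u * c) * g⁻¹ := by rw [mem_centralizer_singleton_iff.mp hc]
          _ = g * u * g⁻¹ * (g * c * g⁻¹) := by group
      refine ⟨⟨⟨fun a b => Subtype.ext ?_⟩⟩, fun c hc => ?_⟩
      · have e := h.comm (key a a.2) (key b b.2)
        show (a : G) * b = b * a
        calc (a : G) * b = g⁻¹ * (g * a * g⁻¹ * (g * b * g⁻¹)) * g := by group
          _ = g⁻¹ * (g * b * g⁻¹ * (g * a * g⁻¹)) * g := by rw [e]
          _ = b * a := by group
      · rw [pow_two]
        calc c * c = g⁻¹ * (g * c * g⁻¹ * (g * c * g⁻¹)) * g := by group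
          _ = 1 := by rw [h.elem _ (key c hc)]; group
    obtain ⟨F, iF, iFF, hF, -, ⟨e⟩⟩ := hE.nonempty_equiv_SL2
    refine ⟨fun x hx hxo => ?_, F, iF, iFF, hF, e.toMonoidHom, e.surjective, ?_⟩
    · have : x ∈ W := (hW x).mpr ⟨hx, hxo⟩
      rw [hW1] at this
      rw [hO]; exact this
    · rw [hO]; exact (MonoidHom.ker_eq_bot_iff _).mpr e.injective
  · set O := Cfsg.oddCore G with hOdef
    have hodd : Odd (Nat.card O) := odd_card_oddCore
    have hlt : Nat.card (G ⧸ O) < n := by
      rw [← hcard, card_eq_card_quotient_mul_card_subgroup O]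
      refine lt_mul_of_one_lt_right Nat.card_pos ?_
      exact one_lt_card_iff_ne_bot _ |>.mpr hO
    obtain ⟨h1, F, iF, iFF, hF, φ, hφ, hker⟩ :=
      ih _ hlt (G ⧸ O) rfl _ (h.quotient O hodd) (h.not_normal_quotient hn O hodd)
    have hcore : Cfsg.oddCore (G ⧸ O) = ⊥ := Solvable.pPrimeCore_quotient_eq_bot O rfl
    refine ⟨fun x hx hxo => ?_, F, iF, iFF, ?_, φ.comp (QuotientGroup.mk' O),
      hφ.comp (QuotientGroup.mk'_surjective O), ?_⟩
    · have hxc : QuotientGroup.mk' O x ∈ centralizer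
          (((S.mapSurjective (QuotientGroup.mk'_surjective O) : Sylow 2 (G ⧸ O)) :
            Subgroup (G ⧸ O)) : Set (G ⧸ O)) := by
        rintro _ ⟨s, hs, rfl⟩
        rw [← map_mul, ← map_mul, hx s hs]
      have := h1 _ hxc (hxo.of_dvd_nat (orderOf_map_dvd _ x))
      rw [hcore, mem_bot, ← MonoidHom.mem_ker, QuotientGroup.ker_mk'] at this
      exact this
    · rw [hF, Sylow.coe_mapSurjective, h.card_quotient_map O hodd]
    · rw [← MonoidHom.comap_ker, hker, hcore, MonoidHom.comap_bot, QuotientGroup.ker_mk']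

/-- The main theorem. -/
theorem good {S : Sylow 2 G} (h : Hyp S) (hn : ¬ (S : Subgroup G).Normal) : Good S :=
  good_aux _ G rfl S h hn

end CfsgLib.TIElem
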