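import Cfsg.Agent.Lib.TIElem.Setting

/-!
# Lifting involutions, commuting and inverted pairs through a map with kernel of odd order
-/

set_option autoImplicit false
set_option linter.unusedSectionVars false
set_option linter.style.haveILetI false

namespace CfsgLib.TIElem

open Subgroup

variable {G H : Type*} [Group G] [Group H] [Finite G] (φ : G →* H)

theorem orderOf_map_eq_two_of_odd_ker (hker : Odd (Nat.card φ.ker)) {t : G} (ht : orderOf t = 2) :
    orderOf (φ t) = 2 := by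
  refine orderOf_eq_prime ?_ fun h1 => ?_
  · rw [← map_pow, ← ht, pow_orderOf_eq_one, map_one]
  · have := orderOf_dvd_natCard (⟨t, MonoidHom.mem_ker.mpr h1⟩ : φ.ker)
    rw [orderOf_mk, ht] at this
    exact Nat.not_even_iff_odd.mpr hker (even_iff_two_dvd.mpr this)

theorem exists_invol_lift (hker : Odd (Nat.card φ.ker)) {x : G} (hx : orderOf (φ x) = 2) :
    ∃ v : G, orderOf v = 2 ∧ φ v = φ x := by
  obtain ⟨j, hj⟩ := hker
  refine ⟨x ^ (2 * j + 1), ?_, ?_⟩
  · refine orderOf_eq_prime ?_ fun h1 => ?_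
    · have hmem : x ^ 2 ∈ φ.ker := by
        rw [MonoidHom.mem_ker, map_pow, ← hx, pow_orderOf_eq_one]
      have := congrArg Subtype.val (pow_card_eq_one' (x := (⟨x ^ 2, hmem⟩ : φ.ker)))
      rw [SubmonoidClass.coe_pow, hj] at this
      rw [← pow_mul, mul_comm, pow_mul]
      exact this
    · have := congrArg φ h1
      rw [map_pow, map_one, pow_succ, pow_mul, ← hx, pow_orderOf_eq_one, one_pow, one_mul] at this
      rw [this, orderOf_one] at hx
      omega
  · rw [map_pow, pow_succ, pow_mul, ← hx, pow_orderOf_eq_one, one_pow, one_mul]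

/-- An involution congruent to a given one modulo an odd kernel is conjugate to it by the kernel. -/
theorem exists_conj_of_map_eq (hker : Odd (Nat.card φ.ker)) {t t' : G} (ht : t * t = 1)
    (ht' : t' * t' = 1) (h : φ t = φ t') : ∃ c ∈ φ.ker, c * t * c⁻¹ = t' := by
  set o := t * t' with ho
  have hoK : o ∈ φ.ker := by
    rw [MonoidHom.mem_ker, ho, map_mul, ← h, ← map_mul, ht, map_one]
  have hinv : t * o * t⁻¹ = o⁻¹ := by
    rw [ho, mul_inv_rev, inv_eq_of_mul_eq_one_right ht, inv_eq_of_mul_eq_one_right ht', ← mul_assoc,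
      ht, one_mul]
  obtain ⟨j, hj⟩ := hker
  have hpow : o ^ (2 * j + 1) = 1 := by
    have := congrArg Subtype.val (pow_card_eq_one' (x := (⟨o, hoK⟩ : φ.ker)))
    rwa [SubmonoidClass.coe_pow, hj] at this
  refine ⟨(o ^ (j + 1))⁻¹, inv_mem (pow_mem hoK _), ?_⟩
  have e1 : t * o ^ (j + 1) * t⁻¹ = (o ^ (j + 1))⁻¹ := inv_pow_of_inverts hinv _
  have e2 : o ^ (j + 1) * o ^ (j + 1) = o := by
    rw [← pow_add, show j + 1 + (j + 1) = 2 * j + 1 + 1 by omega, pow_succ, hpow, one_mul]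
  calc (o ^ (j + 1))⁻¹ * t * (o ^ (j + 1))⁻¹⁻¹
      = (t * o ^ (j + 1) * t⁻¹) * t * o ^ (j + 1) := by rw [e1, inv_inv]
    _ = t * (o ^ (j + 1) * o ^ (j + 1)) := by group
    _ = t' := by rw [e2, ho, ← mul_assoc, ht, one_mul]

theorem exists_commute_lift (hker : Odd (Nat.card φ.ker)) {t x : G} (ht : orderOf t = 2)
    (hc : Commute (φ t) (φ x)) : ∃ c : G, φ c = φ x ∧ Commute t c := by
  have h1 : φ t = φ (x * t * x⁻¹) := by
    rw [map_mul, map_mul, map_inv, ← hc.eq, mul_inv_cancel_right]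
  have h2 : x * t * x⁻¹ * (x * t * x⁻¹) = 1 := by
    calc x * t * x⁻¹ * (x * t * x⁻¹) = x * (t * t) * x⁻¹ := by group
      _ = 1 := by rw [Invol.mul_self_eq_one ht, mul_one, mul_inv_cancel]
  obtain ⟨c, hcK, hct⟩ := exists_conj_of_map_eq φ hker (Invol.mul_self_eq_one ht) h2 h1
  refine ⟨c⁻¹ * x, by rw [map_mul, map_inv, MonoidHom.mem_ker.mp hcK, inv_one, one_mul], ?_⟩
  show t * (c⁻¹ * x) = c⁻¹ * x * t
  calc t * (c⁻¹ * x) = c⁻¹ * (c * t * c⁻¹) * x := by group
    _ = c⁻¹ * x * t := by rw [hct]; group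

/-- An element inverted by an involution lifts to one, up to squaring. -/
theorem exists_inverted_lift (hker : Odd (Nat.card φ.ker)) {x w : G} (hw : orderOf (φ w) = 2)
    (hinv : φ w * φ x * (φ w)⁻¹ = (φ x)⁻¹) :
    ∃ k v : G, orderOf v = 2 ∧ v * k * v⁻¹ = k⁻¹ ∧ φ k = (φ x)⁻¹ ^ 2 := by
  obtain ⟨v, hv, hφv⟩ := exists_invol_lift φ hker hw
  have hvi := Invol.inv_eq_self hv
  refine ⟨v * x * v * x⁻¹, v, hv, ?_, ?_⟩
  · calc v * (v * x * v * x⁻¹) * v⁻¹ = (v * v) * x * v * x⁻¹ * v⁻¹ := by group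
      _ = _ := by rw [Invol.mul_self_eq_one hv, mul_inv_rev, mul_inv_rev, mul_inv_rev, inv_inv, hvi]
                  group
  · have e : φ v * φ x * φ v = (φ x)⁻¹ := by
      rw [← hinv, hφv]
      congr 1
      rw [← hφv, ← map_inv, hvi]
    rw [map_mul, map_mul, map_mul, map_inv, e, pow_two]

/-- If an involution inverts an element whose image has order divisible by a prime, it inverts an
element of that prime order. -/
theorem exists_inverted_prime (hker : Odd (Nat.card φ.ker)) {p : ℕ} (hp : p.Prime) (hp2 : p ≠ 2)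
    {x w : G} (hw : orderOf (φ w) = 2) (hinv : φ w * φ x * (φ w)⁻¹ = (φ x)⁻¹)
    (hdvd : p ∣ orderOf (φ x)) :
    ∃ y v : G, orderOf y = p ∧ orderOf v = 2 ∧ v * y * v⁻¹ = y⁻¹ := by
  obtain ⟨k, v, hv, hk, hφk⟩ := exists_inverted_lift φ hker hw hinv
  have hd : p ∣ orderOf k := by
    refine Dvd.dvd.trans ?_ (orderOf_map_dvd φ k)
    rw [hφk, orderOf_pow' _ two_ne_zero, orderOf_inv]
    refine (Nat.Coprime.dvd_mul_left (m := 2) ?_).mp ?_
    · exact (Nat.coprime_primes hp Nat.prime_two).mpr hp2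
    · exact hdvd.trans (by
        rcases (Nat.dvd_prime Nat.prime_two).mp (Nat.gcd_dvd_right (orderOf (φ x)) 2) with e | e
        · rw [e, Nat.div_one]; exact dvd_mul_left _ _
        · rw [e]; exact ⟨1, by rw [mul_one, Nat.mul_div_cancel' (e ▸ Nat.gcd_dvd_left _ _)]⟩)
  obtain ⟨d, hd⟩ := hd
  refine ⟨k ^ d, v, ?_, hv, inv_pow_of_inverts hk d⟩
  have hpos := orderOf_pos k
  have hd0 : d ≠ 0 := by rintro rfl; rw [hd] at hpos; simp at hpos
  rw [orderOf_pow' k hd0, hd, Nat.gcd_mul_left_left, Nat.mul_div_cancel _ (Nat.pos_of_ne_zero hd0)]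

end CfsgLib.TIElem
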