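import Mathlib.LinearAlgebra.Matrix.SpecialLinearGroup
import Mathlib.FieldTheory.Perfect
import Mathlib.FieldTheory.Finite.Basic
import Mathlib.GroupTheory.OrderOfElement
import Mathlib.Algebra.CharP.Two
import Mathlib.Tactic.LinearCombination

/-!
# In `SL(2, F)` over a finite field of characteristic two every element is inverted by an involution
-/

set_option autoImplicit false
set_option linter.style.haveILetI false

namespace CfsgLib.TIElem

open Matrix

variable {F : Type*} [Field F] [Finite F] [CharP F 2]

theorem exists_involution_inverting (A : SpecialLinearGroup (Fin 2) F) :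
    ∃ M : SpecialLinearGroup (Fin 2) F, M * M = 1 ∧ M ≠ 1 ∧ M * A * M⁻¹ = A⁻¹ := by
  classical
  haveI : Fintype F := Fintype.ofFinite F
  haveI : ExpChar F 2 := ExpChar.prime Nat.prime_two
  have h2 : (2 : F) = 0 := CharTwo.two_eq_zero
  set a := (A : Matrix (Fin 2) (Fin 2) F) 0 0
  set b := (A : Matrix (Fin 2) (Fin 2) F) 0 1
  set c := (A : Matrix (Fin 2) (Fin 2) F) 1 0
  set d := (A : Matrix (Fin 2) (Fin 2) F) 1 1
  obtain ⟨x, y, z, heq, hdet, hne⟩ : ∃ x y z : F,
      (a + d) * x + b * z + c * y = 0 ∧ x * x + y * z = 1 ∧ (y ≠ 0 ∨ z ≠ 0) := by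
    by_cases hb : b = 0
    · by_cases hc : c = 0
      · exact ⟨0, 1, 1, by rw [hb, hc]; ring, by ring, Or.inl one_ne_zero⟩
      · by_cases had : a + d = 0
        · exact ⟨1, 0, 1, by rw [hb, had]; ring, by ring, Or.inr one_ne_zero⟩
        · refine ⟨1, (a + d) / c, 0, ?_, by ring, Or.inl (div_ne_zero had hc)⟩
          rw [hb]; field_simp; linear_combination (a + d) * h2
    · by_cases had : a + d = 0
      · obtain ⟨x, hx⟩ := FiniteField.isSquare_of_char_two (CharP.eq F (ringChar.charP F) ‹CharP F 2›)
          (1 + b * c)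
        exact ⟨x, b, c, by rw [had]; linear_combination b * c * h2,
          by linear_combination -hx + b * c * h2, Or.inl hb⟩
      · refine ⟨1, 0, (a + d) / b, ?_, by ring, Or.inr (div_ne_zero had hb)⟩
        field_simp; linear_combination (a + d) * h2
  obtain ⟨M, hM⟩ : ∃ M : SpecialLinearGroup (Fin 2) F,
      (M : Matrix (Fin 2) (Fin 2) F) = !![x, y; z, x] :=
    ⟨⟨!![x, y; z, x], by rw [det_fin_two_of]; linear_combination hdet - y * z * h2⟩, rfl⟩
  refine ⟨M, ?_, ?_, ?_⟩
  · refine Subtype.ext ?_
    rw [SpecialLinearGroup.coe_mul, SpecialLinearGroup.coe_one, hM]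
    ext i j
    fin_cases i <;> fin_cases j <;> simp [Matrix.mul_apply, Fin.sum_univ_two]
    · linear_combination hdet
    · linear_combination x * y * h2
    · linear_combination x * z * h2
    · linear_combination hdet
  · intro e
    rw [e, SpecialLinearGroup.coe_one] at hM
    have e1 := congrFun (congrFun hM 0) 1
    have e2 := congrFun (congrFun hM 1) 0
    simp at e1 e2
    rcases hne with h | h
    · exact h e1.symm
    · exact h e2.symm
  · rw [mul_inv_eq_iff_eq_mul]
    refine Subtype.ext ?_
    rw [SpecialLinearGroup.coe_mul, SpecialLinearGroup.coe_mul, SpecialLinearGroup.coe_inv,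
      adjugate_fin_two, hM]
    ext i j
    fin_cases i <;> fin_cases j <;> simp [Matrix.mul_apply, Fin.sum_univ_two] <;>
      simp only [a, b, c, d] at heq
    · linear_combination heq - x * d * h2
    · linear_combination b * x * h2 + y * 0 * heq
    · linear_combination c * x * h2
    · linear_combination heq - x * a * h2

end CfsgLib.TIElem
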