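import Cfsg.Agent.Lib.TIElem.Odd
import Cfsg.Agent.Lib.TIElem.SLInv
import Cfsg.Agent.Lib.TIElem.Lift
import Cfsg.Agent.Lib.Frobenius.Theorem
import Cfsg.Agent.Lib.Frobenius.ComplementSylow
import Mathlib.GroupTheory.Transfer
import Mathlib.Algebra.CharP.Two

/-!
# The two-point stabiliser in the odd part of the centraliser of the Sylow 2-subgroup

If the odd core is trivial, either the odd part is trivial or it acts semiregularly off the base
point.
-/

set_option autoImplicit false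
set_option linter.unusedSectionVars false
set_option linter.style.haveILetI false

open scoped Pointwise

namespace CfsgLib.TIElem

open MulAction Subgroup

universe u

theorem charTwo_of_even_card {F : Type*} [Field F] [Fintype F] (h : Even (Fintype.card F)) :
    CharP F 2 := by
  have hc : ringChar F = 2 := FiniteField.even_card_iff_char_two.mpr (Nat.even_iff.mp h)
  exact CharP.congr (ringChar F) hc

namespace Hyp

variable {G : Type u} [Group G] [Finite G] {S : Sylow 2 G} (h : Hyp S)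
  (hn : ¬ (S : Subgroup G).Normal) (hIH : GoodBelow G) (hO : Cfsg.oddCore G = ⊥)
include h hn hIH hO

local notation "HN" => normalizer ((S : Subgroup G) : Set G)
local notation "HC" => centralizer ((S : Subgroup G) : Set G)
local notation "Ω" => G ⧸ normalizer ((S : Subgroup G) : Set G)
local notation "o" => (QuotientGroup.mk 1 : G ⧸ normalizer ((S : Subgroup G) : Set G))

theorem conj_mem_centralizer_of_mem_stab {g : G} (hg : g ∉ HN) {e : G}
    (he : e ∈ HC ⊓ stabilizer G (QuotientGroup.mk g : Ω)) :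
    g⁻¹ * e * g ∈ HC := by
  have hb : (QuotientGroup.mk g : Ω) ≠ o :=
    fun e => hg (by simpa using QuotientGroup.eq.mp e)
  exact h.conj_mem_centralizer hn he.1
    (h.odd_orderOf_stab hn hb (h.centralizer_le_normalizer' hn he.1) he.2) he.2

theorem map_conj_le_normalizer {g : G} (hg : g ∉ HN) {E₁ : Subgroup G}
    (hle : E₁ ≤ HC ⊓ stabilizer G (QuotientGroup.mk g : Ω)) :
    (S : Subgroup G).map (MulAut.conj g).toMonoidHom ≤ normalizer (E₁ : Set G) := by
  refine le_trans ?_ (centralizer_le_normalizer _)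
  rintro _ ⟨s, hs, rfl⟩ e he
  have hc := h.conj_mem_centralizer_of_mem_stab hn hIH hO hg (hle he) s hs
  simp only [MulEquiv.coe_toMonoidHom, MulAut.conj_apply]
  calc e * (g * s * g⁻¹) = g * (g⁻¹ * e * g * s) * g⁻¹ := by group
    _ = g * (s * (g⁻¹ * e * g)) * g⁻¹ := by rw [hc]
    _ = g * s * g⁻¹ * e := by group

theorem le_normalizer_of_le {E₁ : Subgroup G} (hle : E₁ ≤ HC) :
    (S : Subgroup G) ≤ normalizer (E₁ : Set G) :=
  le_trans (show (S : Subgroup G) ≤ centralizer (E₁ : Set G) from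
    fun s hs e he => (hle he s hs).symm) (centralizer_le_normalizer _)

theorem normalizer_ne_top_of_le {b : Ω} (hb : b ≠ o) {E₁ : Subgroup G}
    (hle : E₁ ≤ HC ⊓ stabilizer G b) (hne : E₁ ≠ ⊥) : normalizer (E₁ : Set G) ≠ ⊤ := by
  intro htop
  refine hne (le_bot_iff.mp (hO ▸ le_oddCore (normalizer_eq_top_iff.mp htop) ?_))
  exact (h.odd_card_stab hn hb).of_dvd_nat (card_dvd_of_le
    (hle.trans (inf_le_inf_right _ (h.centralizer_le_normalizer' hn))))

/-- (E1) -/
theorem fix_of_normalizes {b : Ω} (hb : b ≠ o) {E₁ : Subgroup G}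
    (hle : E₁ ≤ HC ⊓ stabilizer G b) (hne : E₁ ≠ ⊥) {c : G} (hc : c ∈ HC)
    (hco : Odd (orderOf c)) (hcn : c ∈ normalizer (E₁ : Set G)) : c • b = b := by
  have hH := h.normalizer_ne_top_of_le hn hIH hO hb hle hne
  induction b using QuotientGroup.induction_on with
  | _ g =>
  have hg : g ∉ HN := fun hg => hb (QuotientGroup.eq.mpr (by simpa using hg))
  exact h.fix_of_mem_proper hn hIH hH (h.le_normalizer_of_le hn hIH hO (hle.trans inf_le_left))
    (h.map_conj_le_normalizer hn hIH hO hg hle) hg hc hcn hco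

variable {W : Subgroup G}
  (hW : ∀ x, x ∈ W ↔ x ∈ centralizer ((S : Subgroup G) : Set G) ∧ Odd (orderOf x))
include hW

theorem conj_mem_odd {n : G} (hn' : n ∈ HN) {w : G} (hw : w ∈ W) : n * w * n⁻¹ ∈ W := by
  haveI := normal_centralizer_subgroupOf (S : Subgroup G)
  refine (hW _).mpr ⟨?_, ?_⟩
  · exact (normal_centralizer_subgroupOf (S : Subgroup G)).conj_mem
      (⟨w, h.centralizer_le_normalizer' hn ((hW w).mp hw).1⟩ : HN) ((hW w).mp hw).1 ⟨n, hn'⟩
  · rw [Invol.orderOf_conj]; exact ((hW w).mp hw).2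

theorem stab_le {b : Ω} (hb : b ≠ o) : HC ⊓ stabilizer G b ≤ W := fun x hx =>
  (hW x).mpr ⟨hx.1, h.odd_orderOf_stab hn hb (h.centralizer_le_normalizer' hn hx.1) hx.2⟩

/-- (E2) -/
theorem eq_bot_of_fixes {b : Ω} (hb : b ≠ o) (hfix : W ≤ stabilizer G b) : W = ⊥ := by
  have hall : ∀ x : Ω, W ≤ stabilizer G x := by
    intro x w hw
    by_cases hx : x = o
    · subst hx
      exact (SEmb.smul_one_eq_iff w).mpr (h.centralizer_le_normalizer' hn ((hW w).mp hw).1)
    · obtain ⟨n, hn', rfl⟩ := h.exists_smul_eq_of_ne hn hb hx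
      have := mem_stabilizer_iff.mp (hfix (h.conj_mem_odd hn hIH hO hW (inv_mem hn') hw))
      rw [inv_inv, mul_smul, mul_smul, inv_smul_eq_iff] at this
      exact this
  have hle : W ≤ (HN).normalCore := fun w hw g => by
    have := (SEmb.smul_mk_eq_iff (H := HN) w g⁻¹).mp (hall _ hw)
    simpa using this
  refine le_bot_iff.mp (hle.trans (hO ▸ le_oddCore inferInstance ?_))
  refine (h.odd_card_stab hn hb).of_dvd_nat (card_dvd_of_le fun x hx => mem_inf.mpr
    ⟨normalCore_le _ hx, ?_⟩)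
  induction b using QuotientGroup.induction_on with
  | _ g =>
    rw [mem_stabilizer_iff, SEmb.smul_mk_eq_iff]
    simpa using hx g⁻¹

theorem stab_conj {b : Ω} {n : G} (hn' : n ∈ HN) {x : G} (hx : n⁻¹ * x * n ∈ HC ⊓ stabilizer G b) :
    x ∈ HC ⊓ stabilizer G (n • b) := by
  haveI := normal_centralizer_subgroupOf (S : Subgroup G)
  refine ⟨?_, ?_⟩
  · have e : n * (n⁻¹ * x * n) * n⁻¹ ∈ HC :=
      (normal_centralizer_subgroupOf (S : Subgroup G)).conj_mem
        (⟨n⁻¹ * x * n, h.centralizer_le_normalizer' hn hx.1⟩ : HN) hx.1 ⟨n, hn'⟩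
    simpa [mul_assoc] using e
  · have e := mem_stabilizer_iff.mp hx.2
    rw [mul_smul, mul_smul, inv_smul_eq_iff] at e
    exact e

/-- (E3) -/
theorem frobeniusComplement {b : Ω} (hb : b ≠ o) (hE : HC ⊓ stabilizer G b ≠ ⊥)
    (hfix : ¬ W ≤ stabilizer G b) :
    Cfsg.IsFrobeniusComplement ((HC ⊓ stabilizer G b).subgroupOf W) := by
  classical
  set E := HC ⊓ stabilizer G b with hEdef
  have hEW : E ≤ W := h.stab_le hn hIH hO hW hb
  refine ⟨fun e => hE (le_bot_iff.mp fun x hx => ?_), fun e => hfix fun x hx =>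
    ((subgroupOf_eq_top.mp e) hx).2, fun w hw => ?_⟩
  · have : (⟨x, hEW hx⟩ : W) ∈ E.subgroupOf W := hx
    rw [e, mem_bot] at this
    exact mem_bot.mpr (congrArg Subtype.val this)
  by_contra hne
  set X := E.subgroupOf W ⊓ MulAut.conj w • E.subgroupOf W
  obtain ⟨p, hp, hdvd⟩ := Nat.exists_prime_and_dvd (n := Nat.card X)
    (fun e => hne (card_eq_one.mp e))
  haveI : Fact p.Prime := ⟨hp⟩
  obtain ⟨P⟩ : Nonempty (Sylow p X) := inferInstance
  set Q := (P : Subgroup X).map X.subtype with hQ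
  have hQp : IsPGroup p Q := P.2.map _
  have hQX : Q ≤ X := map_subtype_le _
  have hQ1 : Q ≠ ⊥ := by
    rw [hQ, Ne, map_eq_bot_iff_of_injective _ X.subtype_injective]
    exact P.ne_bot_of_dvd_card hdvd
  have hE1 : ∀ {b' : Ω}, b' ≠ o → Q.map W.subtype ≤ HC ⊓ stabilizer G b' →
      ∀ c : W, c ∈ normalizer (Q : Set W) → (c : G) • b' = b' := by
    intro b' hb' hle c hc
    refine h.fix_of_normalizes hn hIH hO hb' hle
      (fun e => hQ1 ((map_eq_bot_iff_of_injective _ W.subtype_injective).mp e))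
      ((hW _).mp c.2).1 ((hW _).mp c.2).2 (mem_normalizer_iff.mpr fun x => ⟨?_, ?_⟩)
    · rintro ⟨z, hz, rfl⟩
      exact ⟨c * z * c⁻¹, (mem_normalizer_iff.mp hc z).mp hz, by simp⟩
    · rintro ⟨z, hz, e⟩
      refine ⟨c⁻¹ * z * c, ?_, ?_⟩
      · exact (mem_normalizer_iff.mp hc _).mpr (by simpa [mul_assoc] using hz)
      · simp only [coe_subtype, coe_mul, InvMemClass.coe_inv] at e ⊢
        rw [e]; group
  have hwN : (w : G) ∈ HN := h.centralizer_le_normalizer' hn ((hW _).mp w.2).1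
  have hwb : (w : G) • b ≠ o := fun e => hb (by
    rw [eq_inv_smul_iff.mpr e]
    exact (SEmb.smul_one_eq_iff _).mpr (inv_mem hwN))
  have hQw : ∀ x ∈ Q, w⁻¹ * x * w ∈ E.subgroupOf W := fun x hx => by
    have := (mem_inf.mp (hQX hx)).2
    rw [mem_pointwise_smul_iff_inv_smul_mem, MulAut.smul_def, ← map_inv, MulAut.conj_apply,
      inv_inv] at this
    exact this
  have hNE : normalizer (Q : Set W) ≤ X := by
    intro c hc
    have h1 := hE1 hb (by rintro _ ⟨x, hx, rfl⟩; exact (mem_inf.mp (hQX hx)).1) c hc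
    have h2 := hE1 hwb (by
      rintro _ ⟨x, hx, rfl⟩
      exact h.stab_conj hn hIH hO hW hwN (hQw x hx)) c hc
    refine mem_inf.mpr ⟨⟨((hW _).mp c.2).1, h1⟩, ?_⟩
    rw [mem_pointwise_smul_iff_inv_smul_mem, MulAut.smul_def, ← map_inv, MulAut.conj_apply, inv_inv,
      mem_subgroupOf]
    exact mem_inf.mpr ⟨((hW _).mp (w⁻¹ * c * w).2).1, mem_stabilizer_iff.mpr (by
      simp only [coe_mul, InvMemClass.coe_inv, mul_smul, h2, inv_smul_smul])⟩
  -- `Q` is a Sylow subgroup of `W`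
  have hmax : ∀ R : Subgroup W, IsPGroup p R → Q ≤ R → R = Q := by
    intro R hR hQR
    by_contra hne'
    haveI : Group.IsNilpotent R := hR.isNilpotent
    have hlt := Group.normalizerCondition_of_isNilpotent (G := R) (Q.subgroupOf R)
      (lt_top_iff_ne_top.mpr fun e => hne' (le_antisymm (subgroupOf_eq_top.mp e) hQR))
    set T := (normalizer ((Q.subgroupOf R : Subgroup R) : Set R)).map R.subtype
    have hTN : T ≤ normalizer (Q : Set W) := by
      rintro _ ⟨r, hr, rfl⟩
      refine mem_normalizer_iff.mpr fun x => ⟨fun hx => ?_, fun hx => ?_⟩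
      · exact (mem_normalizer_iff.mp hr ⟨x, hQR hx⟩).mp hx
      · have hxR : x ∈ R := by
          have := mul_mem (mul_mem (inv_mem r.2) (hQR hx)) r.2
          simpa [mul_assoc] using this
        exact (mem_normalizer_iff.mp hr ⟨x, hxR⟩).mpr hx
    have hTX : T ≤ X := hTN.trans hNE
    have hTp : IsPGroup p (T.subgroupOf X) :=
      (hR.to_le (map_subtype_le _)).of_equiv (subgroupOfEquivOfLe hTX).symm
    have hPT : (P : Subgroup X) ≤ T.subgroupOf X := by
      intro x hx
      have hxQ : (x : W) ∈ Q := ⟨x, hx, rfl⟩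
      exact ⟨⟨x, hQR hxQ⟩, le_normalizer (show (⟨x, hQR hxQ⟩ : R) ∈ Q.subgroupOf R from hxQ), rfl⟩
    have heq := P.3 hTp hPT
    refine hlt.not_ge fun r hr => ?_
    have hrT : (r : W) ∈ T := ⟨r, hr, rfl⟩
    exact ⟨⟨r, hTX hrT⟩, heq ▸ (show (⟨r, hTX hrT⟩ : X) ∈ T.subgroupOf X from hrT), rfl⟩
  set Q' : Subgroup W := Q.map (MulAut.conj w⁻¹).toMonoidHom
  have hQ'E : Q' ≤ E.subgroupOf W := by
    rintro _ ⟨x, hx, rfl⟩
    simpa using hQw x hx
  have hQE : Q ≤ E.subgroupOf W := hQX.trans inf_le_left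
  let PW : Sylow p W := ⟨Q, hQp, fun {R} hR hle => hmax R hR hle⟩
  let PW' : Sylow p W := w⁻¹ • PW
  have hPW' : (PW' : Subgroup W) = Q' := rfl
  let A : Sylow p (E.subgroupOf W) := PW.subtype hQE
  let B : Sylow p (E.subgroupOf W) := PW'.subtype (hPW' ▸ hQ'E)
  obtain ⟨e, he⟩ := exists_smul_eq (E.subgroupOf W) B A
  have hsub : (e : W) • PW' = PW := Sylow.subtype_injective ((Sylow.smul_subtype (P := PW') (hPW' ▸ hQ'E) e).symm.trans he)
  rw [show PW' = w⁻¹ • PW from rfl, smul_smul, Sylow.smul_eq_iff_mem_normalizer] at hsub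
  have hX : (e : W) * w⁻¹ ∈ E.subgroupOf W := (mem_inf.mp (hNE hsub)).1
  exact hw (inv_mem_iff.mp (by simpa using mul_mem (inv_mem e.2) hX))

theorem isCyclic_pSubgroup {b : Ω} (hb : b ≠ o) (hfix : ¬ W ≤ stabilizer G b)
    (hWodd : Odd (Nat.card W)) {p : ℕ} [Fact p.Prime] {P : Subgroup G}
    (hP : IsPGroup p P) (hPE : P ≤ HC ⊓ stabilizer G b) : IsCyclic P := by
  by_cases hE : HC ⊓ stabilizer G b = ⊥
  · rw [hE, le_bot_iff] at hPE
    subst hPE
    infer_instance
  set E := HC ⊓ stabilizer G b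
  have hEW : E ≤ W := h.stab_le hn hIH hO hW hb
  have hF := h.frobeniusComplement hn hIH hO hW hb hE hfix
  obtain ⟨K, -, hKn, hKc⟩ := Frobenius.exists_kernel_subgroup hF
  haveI := hKn
  have hK : K ≠ ⊥ := fun e => hF.2.1 (isComplement'_bot_left.mp (e ▸ hKc))
  have hdisj := hKc.disjoint
  have hfpf : ∀ x ∈ E.subgroupOf W, x ≠ 1 → K ⊓ centralizer ({x} : Set W) = ⊥ := by
    intro x hx hx1
    refine le_bot_iff.mp fun k hk => mem_bot.mpr ?_
    obtain ⟨hkK, hkx⟩ := hk
    by_contra hk1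
    have hkE : k ∈ E.subgroupOf W := by
      by_contra hkE
      have := hF.2.2 k hkE
      have hmem : x ∈ E.subgroupOf W ⊓ MulAut.conj k • E.subgroupOf W := by
        refine mem_inf.mpr ⟨hx, ?_⟩
        rw [mem_pointwise_smul_iff_inv_smul_mem, MulAut.smul_def, ← map_inv,
          MulAut.conj_apply, inv_inv, mul_assoc, ← mem_centralizer_singleton_iff.mp hkx, inv_mul_cancel_left]
        exact hx
      rw [this, mem_bot] at hmem
      exact hx1 hmem
    exact hk1 (mem_bot.mp (hdisj.le_bot ⟨hkK, hkE⟩))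
  set P' := (P.subgroupOf W).subgroupOf (E.subgroupOf W)
  have e1 : P' ≃* P := (subgroupOfEquivOfLe (subgroupOf_mono W hPE)).trans
    (subgroupOfEquivOfLe (hPE.trans hEW))
  rcases Frobenius.sylow_cyclic_or_quaternion hKc hK hfpf P' (hP.of_equiv e1.symm) with hc | ⟨hp2, n, ⟨eq⟩⟩
  · exact e1.isCyclic.mp hc
  · exfalso
    have hodd : Odd (Nat.card P) := hWodd.of_dvd_nat (card_dvd_of_le (hPE.trans hEW))
    rw [← Nat.card_congr e1.toEquiv, Nat.card_congr eq.toEquiv] at hodd
    haveI : NeZero (2 ^ n) := ⟨(Nat.two_pow_pos n).ne'⟩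
    rw [Nat.card_eq_fintype_card, QuaternionGroup.card] at hodd
    exact Nat.not_even_iff_odd.mpr hodd ⟨2 * 2 ^ n, by ring⟩

end Hyp

end CfsgLib.TIElem
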