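import Cfsg.Agent.Lib.PSLTwoClasses.Basic

/-!
# The centraliser of an involution in `PSL(2, f)`, `f` odd
-/

set_option autoImplicit false
set_option linter.style.haveILetI false

namespace CfsgLib.TIElem

open Matrix CfsgLib.PSLTwoClasses CfsgLib.SL2Trace

theorem card_PSL_odd {F : Type*} [Field F] [Fintype F] (hodd : ¬ 2 ∣ Fintype.card F) :
    Nat.card (ProjectiveSpecialLinearGroup (Fin 2) F) * 2 =
      Fintype.card F * ((Fintype.card F - 1) * (Fintype.card F + 1)) := by
  have hg : Nat.gcd (Fintype.card (Fin 2)) (Fintype.card F - 1) = 2 := by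
    rw [Fintype.card_fin]
    exact Nat.gcd_eq_left (by omega)
  have hm := Linear.card_PSL_mul (n := Fin 2) (F := F)
  rw [hg, Linear.card_SL_two] at hm
  rw [mul_comm, hm, mul_comm (Fintype.card F - 1), ← Nat.sq_sub_sq, one_pow]

theorem card_centralizer_invol {F : Type*} [Field F] [Fintype F] (hodd : ¬ 2 ∣ Fintype.card F)
    {t : ProjectiveSpecialLinearGroup (Fin 2) F} (ht : orderOf t = 2) :
    Nat.card (Subgroup.centralizer ({t} : Set (ProjectiveSpecialLinearGroup (Fin 2) F))) + 1 =
        Fintype.card F ∨
      Nat.card (Subgroup.centralizer ({t} : Set (ProjectiveSpecialLinearGroup (Fin 2) F))) =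
        Fintype.card F + 1 := by
  have h20 : (2 : F) ≠ 0 := fun e => hodd (two_eq_zero_iff.1 e)
  have h40 : (4 : F) ≠ 0 := fun e => h20 (mul_self_eq_zero.1 (by linear_combination e))
  obtain ⟨M, rfl⟩ := QuotientGroup.mk_surjective t
  set a := (M : Matrix (Fin 2) (Fin 2) F) 0 0
  set b := (M : Matrix (Fin 2) (Fin 2) F) 0 1
  set c := (M : Matrix (Fin 2) (Fin 2) F) 1 0
  set d := (M : Matrix (Fin 2) (Fin 2) F) 1 1
  have hdet : a * d - b * c = 1 := by
    have := M.2
    rwa [det_fin_two] at this
  have hsq : M * M ∈ Subgroup.center (SpecialLinearGroup (Fin 2) F) := by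
    rw [← QuotientGroup.eq_one_iff, QuotientGroup.mk_mul]
    exact (pow_two _).symm.trans (orderOf_dvd_iff_pow_eq_one.1 (dvd_of_eq ht))
  have h0 : tr M = 0 := by
    rw [tr, trace_fin_two]
    show a + d = 0
    rcases center_cases hsq with e | e
    · exfalso
      have e' : ∀ i j, ((M * M : SpecialLinearGroup (Fin 2) F) : Matrix (Fin 2) (Fin 2) F) i j =
          (1 : Matrix (Fin 2) (Fin 2) F) i j := fun i j => by rw [e]; rfl
      have e00 := e' 0 0
      have e01 := e' 0 1
      have e10 := e' 1 0
      have e11 := e' 1 1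
      simp [Matrix.mul_apply, Fin.sum_univ_two] at e00 e01 e10 e11
      have had : a + d ≠ 0 := fun e => h20 (by linear_combination a * e - e00 - hdet)
      have hb : b = 0 := (mul_eq_zero.1 (show b * (a + d) = 0 by linear_combination e01)).resolve_right had
      have hc : c = 0 := (mul_eq_zero.1 (show c * (a + d) = 0 by linear_combination e10)).resolve_right had
      have hda : d = a := by
        have : (a + d) * (a - d) = 0 := by linear_combination e00 - e11
        exact ((sub_eq_zero.1 ((mul_eq_zero.1 this).resolve_left had))).symm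
      have ha : a * a = 1 := by rw [hc, mul_zero] at hdet; rw [hda] at hdet; linear_combination hdet
      have hM : M ∈ Subgroup.center (SpecialLinearGroup (Fin 2) F) := by
        rw [Matrix.SpecialLinearGroup.mem_center_iff]
        refine ⟨a, by rw [Fintype.card_fin, pow_two]; exact ha, ?_⟩
        ext i j
        fin_cases i <;> fin_cases j <;> simp <;> first | exact rfl | exact hb.symm | exact hc.symm | exact hda.symm
      rw [(QuotientGroup.eq_one_iff M).mpr hM, orderOf_one] at ht
      omega
    · have e' : ∀ i j, ((M * M : SpecialLinearGroup (Fin 2) F) : Matrix (Fin 2) (Fin 2) F) i j =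
          -((1 : Matrix (Fin 2) (Fin 2) F) i j) := fun i j => by
        rw [e, SpecialLinearGroup.coe_neg]; rfl
      have e00 := e' 0 0
      have e11 := e' 1 1
      simp [Matrix.mul_apply, Fin.sum_univ_two] at e00 e11
      exact mul_self_eq_zero.1 (by linear_combination e00 + e11 + 2 * hdet)
  have hi := index_mul_two h20 h0
  have hr : tr M ^ 2 ≠ 4 := by rw [h0, zero_pow two_ne_zero]; exact Ne.symm h40
  set C := Subgroup.centralizer ({toPSL M} : Set (ProjectiveSpecialLinearGroup (Fin 2) F))
  show Nat.card C + 1 = _ ∨ Nat.card C = _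
  have hG := card_PSL_odd hodd
  rw [← C.card_mul_index, mul_assoc, hi] at hG
  have hq : 3 ≤ Fintype.card F := by
    have := Fintype.one_lt_card (α := F); omega
  by_cases hu : ∃ u : F, u ^ 2 - tr M * u + 1 = 0
  · rw [(index_regular hr).1 hu, mul_left_comm] at hG
    have h1 := Nat.eq_of_mul_eq_mul_left (by omega) hG
    rw [mul_comm (Nat.card C), mul_comm (Fintype.card F - 1)] at h1
    exact Or.inl (by have := Nat.eq_of_mul_eq_mul_left (by omega) h1; omega)
  · rw [(index_regular hr).2 hu, mul_left_comm] at hG
    have h1 := Nat.eq_of_mul_eq_mul_left (by omega) hG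
    rw [mul_comm (Nat.card C)] at h1
    exact Or.inr (Nat.eq_of_mul_eq_mul_left (by omega) h1)

end CfsgLib.TIElem
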