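import Mathlib.GroupTheory.Sylow
import Mathlib.GroupTheory.SchurZassenhaus
import Mathlib.GroupTheory.GroupAction.Quotient
import Cfsg.Prelude.Def_Involutions
import Cfsg.Agent.Lib.SEmb.Counting
import Cfsg.Agent.Lib.Invol.StronglyEmbedded

/-!
# Elementary abelian Sylow 2-subgroups without real-and-nonreal primes

`Hyp S`: `S` is elementary abelian of order `q` with `q - 1` prime, the centraliser of each
involution of `S` centralises `S`, and no prime is both the order of an element inverted by an
involution and of an element commuting with an involution.  This file has the basic facts: trivial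
intersection, strong embedding of the normaliser, and the structure of two-point stabilisers.
-/

set_option autoImplicit false
set_option linter.unusedSectionVars false
set_option linter.style.haveILetI false

namespace CfsgLib.TIElem

open MulAction Subgroup

variable {G : Type*} [Group G]

/-- No prime is the order of an element commuting with an involution and of one inverted by one. -/
def NoMixedPrime (G : Type*) [Group G] : Prop :=
  ∀ p : ℕ, p.Prime → p ≠ 2 → ∀ x u : G, orderOf x = p → orderOf u = 2 → Commute u x →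
    ∀ y v : G, orderOf y = p → orderOf v = 2 → v * y * v⁻¹ = y⁻¹ → False

/-- The hypothesis. -/
structure Hyp (S : Sylow 2 G) : Prop where
  elem : ∀ s ∈ (S : Subgroup G), s * s = 1
  cent : ∀ t ∈ (S : Subgroup G), t ≠ 1 →
    centralizer ({t} : Set G) ≤ centralizer ((S : Subgroup G) : Set G)
  mprime : (Nat.card (S : Subgroup G) - 1).Prime
  real : NoMixedPrime G

theorem exists_pow_prime {y : G} (h1 : y ≠ 1) (hfin : IsOfFinOrder y) :
    ∃ (p k : ℕ), p.Prime ∧ p ∣ orderOf y ∧ orderOf (y ^ k) = p := by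
  obtain ⟨p, hp, hdvd⟩ := Nat.exists_prime_and_dvd (n := orderOf y)
    (fun h => h1 (orderOf_eq_one_iff.mp h))
  obtain ⟨k, hk⟩ := hdvd
  refine ⟨p, k, hp, ⟨k, hk⟩, ?_⟩
  have hkpos : 0 < k := Nat.pos_of_ne_zero fun h0 => by
    simp [h0] at hk
    exact hfin.orderOf_pos.ne' (orderOf_eq_zero hk)
  rw [orderOf_pow' y hkpos.ne', hk, Nat.gcd_mul_left_left, Nat.mul_div_cancel _ hkpos]

theorem inv_pow_of_inverts {v y : G} (h : v * y * v⁻¹ = y⁻¹) (k : ℕ) :
    v * y ^ k * v⁻¹ = (y ^ k)⁻¹ := by
  rw [← conj_pow, h, inv_pow]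

/-- A nontrivial odd element inverted by an involution commutes with no involution. -/
theorem NoMixedPrime.false_of_commute [Finite G] (hG : NoMixedPrime G) {y v u : G} (hy : y ≠ 1)
    (hyo : Odd (orderOf y)) (hv : orderOf v = 2) (hinv : v * y * v⁻¹ = y⁻¹) (hu : orderOf u = 2)
    (hcomm : Commute u y) : False := by
  obtain ⟨p, k, hp, hdvd, hk⟩ := exists_pow_prime hy (isOfFinOrder_of_finite y)
  refine hG p hp ?_ (y ^ k) u hk hu (hcomm.pow_right k) (y ^ k) v hk hv (inv_pow_of_inverts hinv k)
  rintro rfl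
  exact Nat.not_even_iff_odd.mpr hyo (even_iff_two_dvd.mpr hdvd)

namespace Hyp

variable {S : Sylow 2 G} (h : Hyp S)
include h

theorem comm {a b : G} (ha : a ∈ (S : Subgroup G)) (hb : b ∈ (S : Subgroup G)) :
    a * b = b * a := by
  have e := h.elem _ (mul_mem ha hb)
  calc a * b = a * (a * b * (a * b)) * b := by rw [e, mul_one]
    _ = a * a * (b * a) * (b * b) := by group
    _ = b * a := by rw [h.elem a ha, h.elem b hb, one_mul, mul_one]

theorem orderOf_mem {t : G} (ht : t ∈ (S : Subgroup G)) (h1 : t ≠ 1) : orderOf t = 2 :=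
  Invol.orderOf_eq_two h1 (h.elem t ht)

theorem le_centralizer : (S : Subgroup G) ≤ centralizer ((S : Subgroup G) : Set G) :=
  fun _ ha _ hb => h.comm hb ha

theorem four_le : 4 ≤ Nat.card (S : Subgroup G) := by
  have h2 := h.mprime.two_le
  have hp : IsPGroup 2 (S : Subgroup G) := S.2
  haveI : Finite (S : Subgroup G) := Nat.finite_of_card_ne_zero (by omega)
  obtain ⟨a, ha⟩ := hp.exists_card_eq
  rcases a with _ | _ | a
  · simp [ha] at h2
  · simp [ha] at h2
  · rw [ha]; calc 4 = 2 ^ 2 := rfl
      _ ≤ 2 ^ (a + 1 + 1) := Nat.pow_le_pow_right (by norm_num) (by omega)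

variable [Finite G]

theorem eq_of_mem {t : G} (ht : t ∈ (S : Subgroup G)) (h1 : t ≠ 1) {P : Subgroup G}
    (hP : IsPGroup 2 P) (hPc : P ≤ centralizer ({t} : Set G)) : P ≤ S := by
  have hPC : P ≤ centralizer ((S : Subgroup G) : Set G) := hPc.trans (h.cent t ht h1)
  have hnorm : P ≤ normalizer ((S : Subgroup G) : Set G) :=
    hPC.trans (centralizer_le_normalizer _)
  have hsup : IsPGroup 2 (↥(P ⊔ (S : Subgroup G))) := IsPGroup.to_sup_of_normal_right' hP S.2 hnorm
  exact le_sup_left.trans (S.3 hsup le_sup_right).le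

theorem mem_normalizer_of_conj {t g : G} (ht : t ∈ (S : Subgroup G)) (h1 : t ≠ 1)
    (hg : g * t * g⁻¹ ∈ (S : Subgroup G)) : g ∈ normalizer ((S : Subgroup G) : Set G) := by
  have hPc : ((S : Subgroup G).map (MulAut.conj g⁻¹).toMonoidHom) ≤ centralizer ({t} : Set G) := by
    rintro _ ⟨s, hs, rfl⟩
    rw [mem_centralizer_singleton_iff]
    have e := h.comm hs hg
    simp only [MulEquiv.coe_toMonoidHom, MulAut.conj_apply, inv_inv]
    calc g⁻¹ * s * g * t = g⁻¹ * (s * (g * t * g⁻¹)) * g := by group
      _ = g⁻¹ * ((g * t * g⁻¹) * s) * g := by rw [e]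
      _ = t * (g⁻¹ * s * g) := by group
  have hle := h.eq_of_mem ht h1 (S.2.map _) hPc
  have heq : (S : Subgroup G).map (MulAut.conj g⁻¹).toMonoidHom = S :=
    eq_of_le_of_card_ge hle (by
      rw [card_map_of_injective (MulEquiv.injective _)])
  refine mem_normalizer_iff.mpr fun x => ⟨fun hx => ?_, fun hx => ?_⟩
  · obtain ⟨s, hs, e⟩ := (heq.symm ▸ hx : x ∈ (S : Subgroup G).map (MulAut.conj g⁻¹).toMonoidHom)
    have : g * x * g⁻¹ = s := by
      rw [← e]; simp [mul_assoc]
    rw [this]; exact hs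
  · have hm := mem_map_of_mem (MulAut.conj g⁻¹).toMonoidHom hx
    rw [heq] at hm
    simpa [mul_assoc] using hm

theorem orderOf_two_mem {t : G} (ht : orderOf t = 2)
    (htN : t ∈ normalizer ((S : Subgroup G) : Set G)) : t ∈ (S : Subgroup G) := by
  have hp : IsPGroup 2 (zpowers t) := IsPGroup.of_card (n := 1) (by rw [Nat.card_zpowers, ht]; rfl)
  have hsup : IsPGroup 2 (↥(zpowers t ⊔ (S : Subgroup G))) :=
    IsPGroup.to_sup_of_normal_right' hp S.2 (zpowers_le.mpr htN)
  exact (le_sup_left.trans (S.3 hsup le_sup_right).le) (mem_zpowers t)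

theorem exists_invol : ∃ t ∈ (S : Subgroup G), t ≠ 1 := by
  by_contra hne
  push Not at hne
  have := h.four_le
  rw [(eq_bot_iff_forall _).mpr hne, card_bot] at this
  omega

variable (hn : ¬ (S : Subgroup G).Normal)
include hn

theorem normalizer_ne_top : normalizer ((S : Subgroup G) : Set G) ≠ ⊤ :=
  fun htop => hn (normalizer_eq_top_iff.mp htop)

theorem stronglyEmbedded : Cfsg.IsStronglyEmbedded (normalizer ((S : Subgroup G) : Set G)) := by
  obtain ⟨t, ht, h1⟩ := h.exists_invol
  rw [Invol.isStronglyEmbedded_iff_fusion (h.normalizer_ne_top hn)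
    (Invol.even_card_of_orderOf_two_mem (h.orderOf_mem ht h1) (le_normalizer ht))]
  intro u hu hu2 g hg
  exact h.mem_normalizer_of_conj (h.orderOf_two_mem hu2 hu) (Invol.ne_one_of_invol hu2)
    (h.orderOf_two_mem (by rw [Invol.orderOf_conj, hu2]) hg)

theorem isConj_of_mem {t t' : G} (ht : t ∈ (S : Subgroup G)) (h1 : t ≠ 1)
    (ht' : t' ∈ (S : Subgroup G)) (h1' : t' ≠ 1) :
    ∃ g ∈ normalizer ((S : Subgroup G) : Set G), g * t * g⁻¹ = t' := by
  obtain ⟨g, hg⟩ := isConj_iff.mp (SEmb.isConj_invol (h.stronglyEmbedded hn)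
    (h.orderOf_mem ht h1) (h.orderOf_mem ht' h1'))
  exact ⟨g, h.mem_normalizer_of_conj ht h1 (hg ▸ ht'), hg⟩

/-- The normaliser modulo the centraliser has prime order `q - 1`. -/
theorem relIndex_centralizer :
    (centralizer ((S : Subgroup G) : Set G)).relIndex (normalizer ((S : Subgroup G) : Set G)) =
      Nat.card (S : Subgroup G) - 1 := by
  classical
  obtain ⟨t, ht, h1⟩ := h.exists_invol
  set N := normalizer ((S : Subgroup G) : Set G) with hN
  set f : N → {s : (S : Subgroup G) // s ≠ 1} := fun n =>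
    ⟨⟨(n : G) * t * (n : G)⁻¹, (mem_normalizer_iff.mp n.2 t).mp ht⟩, fun e => h1 (by
      have e' : (n : G) * t * (n : G)⁻¹ = 1 := congrArg Subtype.val e
      simpa [mul_inv_eq_one] using e')⟩ with hf
  have hfiber : ∀ a b : N, f a = f b ↔
      QuotientGroup.mk (s := (centralizer ((S : Subgroup G) : Set G)).subgroupOf N) a =
        QuotientGroup.mk b := by
    intro a b
    rw [QuotientGroup.eq, mem_subgroupOf, hf, Subtype.mk.injEq, Subtype.mk.injEq]
    constructor
    · intro e
      refine h.cent t ht h1 ?_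
      rw [mem_centralizer_singleton_iff]
      simp only [coe_mul, InvMemClass.coe_inv]
      calc (a : G)⁻¹ * b * t = (a : G)⁻¹ * (b * t * (b : G)⁻¹) * b := by group
        _ = t * ((a : G)⁻¹ * b) := by rw [← e]; group
    · intro hab
      have e := hab t ht
      simp only [coe_mul, InvMemClass.coe_inv] at e
      calc (a : G) * t * (a : G)⁻¹ = a * (t * ((a : G)⁻¹ * b)) * (b : G)⁻¹ := by group
        _ = a * (((a : G)⁻¹ * b) * t) * (b : G)⁻¹ := by rw [e]
        _ = b * t * (b : G)⁻¹ := by group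
  have hsurj : Function.Surjective f := by
    rintro ⟨⟨s, hs⟩, hs1⟩
    obtain ⟨g, hg, hgs⟩ := h.isConj_of_mem hn ht h1 hs (fun e => hs1 (Subtype.ext e))
    exact ⟨⟨g, hg⟩, Subtype.ext (Subtype.ext hgs)⟩
  let F : N ⧸ (centralizer ((S : Subgroup G) : Set G)).subgroupOf N →
      {s : (S : Subgroup G) // s ≠ 1} :=
    fun x => Quotient.liftOn' x f fun a b hab => (hfiber a b).mpr (Quotient.sound' hab)
  have hF : Function.Bijective F := by
    refine ⟨fun x y => ?_, fun s => ?_⟩
    · induction x using QuotientGroup.induction_on with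
      | _ a => induction y using QuotientGroup.induction_on with
        | _ b => exact fun e => (hfiber a b).mp e
    · obtain ⟨n, hn'⟩ := hsurj s
      exact ⟨QuotientGroup.mk n, hn'⟩
  rw [relIndex, index, Nat.card_eq_of_bijective F hF]
  haveI : Fintype (S : Subgroup G) := Fintype.ofFinite _
  simp [Nat.card_eq_fintype_card, Fintype.card_subtype_compl]

end Hyp

end CfsgLib.TIElem
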