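import Cfsg.Agent.Lib.TIElem.Complement

/-!
# The odd part of the centraliser is trivial or semiregular
-/

set_option autoImplicit false
set_option linter.unusedSectionVars false
set_option linter.style.haveILetI false

namespace CfsgLib.TIElem

open MulAction Subgroup

universe u

/-- A 2-subgroup of odd index maps trivially to a commutative group, so do all its conjugates. -/
theorem map_eq_one_of_invol {M A : Type*} [Group M] [Finite M] [CommGroup A] (ψ : M →* A)
    (P : Sylow 2 M) (hP : (P : Subgroup M) ≤ ψ.ker) {v : M} (hv : orderOf v = 2) : ψ v = 1 := by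
  haveI : Fact (Nat.Prime 2) := ⟨Nat.prime_two⟩
  obtain ⟨Q, hQ⟩ := (IsPGroup.of_card (n := 1)
    (by rw [Nat.card_zpowers, hv, pow_one]) : IsPGroup 2 (zpowers v)).exists_le_sylow
  obtain ⟨g, hg⟩ := MulAction.exists_smul_eq M P Q
  have hmem : v ∈ ((g • P : Sylow 2 M) : Subgroup M) := hg ▸ hQ (mem_zpowers v)
  obtain ⟨s, hs, rfl⟩ := hmem
  show ψ (g * s * g⁻¹) = 1
  rw [map_mul, map_mul, map_inv, MonoidHom.mem_ker.mp (hP hs), mul_one, mul_inv_cancel]

theorem Hyp.not_normal_of_normal {G : Type*} [Group G] [Finite G] {S : Sylow 2 G}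
    (hn : ¬ (S : Subgroup G).Normal) {K : Subgroup G} [K.Normal] (hSK : (S : Subgroup G) ≤ K) :
    ¬ (S.subtype hSK : Subgroup K).Normal := by
  intro hnormal
  haveI : Fact (Nat.Prime 2) := ⟨Nat.prime_two⟩
  refine hn (normalizer_eq_top_iff.mp ?_)
  refine (eq_top_iff' _).mpr fun g => ?_
  have hle := (normal_subgroupOf_iff_le_normalizer hSK).mp (Sylow.coe_subtype S hSK ▸ hnormal :
    ((S : Subgroup G).subgroupOf K).Normal)
  have hgS : (S : Subgroup G).map (MulAut.conj g).toMonoidHom ≤ K := by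
    rintro _ ⟨s, hs, rfl⟩
    exact Normal.conj_mem inferInstance s (hSK hs) g
  have hsup : IsPGroup 2 ↥((S : Subgroup G).map (MulAut.conj g).toMonoidHom ⊔ (S : Subgroup G)) :=
    IsPGroup.to_sup_of_normal_right' (S.2.map _) S.2 (hgS.trans hle)
  have hleS := le_sup_left.trans (S.3 hsup le_sup_right).le
  have heq := eq_of_le_of_card_ge hleS (by rw [card_map_of_injective (MulEquiv.injective _)])
  refine mem_normalizer_iff.mpr fun x => ?_
  conv_rhs => rw [← heq]
  rw [← mem_map_iff_mem (f := (MulAut.conj g).toMonoidHom) (MulEquiv.injective _)]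
  rfl

namespace Hyp

variable {G : Type u} [Group G] [Finite G] {S : Sylow 2 G} (h : Hyp S)
  (hn : ¬ (S : Subgroup G).Normal) (hIH : GoodBelow G) (hO : Cfsg.oddCore G = ⊥)
include h hn hIH hO

local notation "HN" => normalizer ((S : Subgroup G) : Set G)
local notation "HC" => centralizer ((S : Subgroup G) : Set G)
local notation "Ω" => G ⧸ normalizer ((S : Subgroup G) : Set G)
local notation "o" => (QuotientGroup.mk 1 : G ⧸ normalizer ((S : Subgroup G) : Set G))

variable {W : Subgroup G}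
  (hW : ∀ x, x ∈ W ↔ x ∈ centralizer ((S : Subgroup G) : Set G) ∧ Odd (orderOf x))
include hW

theorem eq_bot_or_semiregular (hWodd : Odd (Nat.card W)) {b : Ω} (hb : b ≠ o) :
    W = ⊥ ∨ HC ⊓ stabilizer G b = ⊥ := by
  classical
  by_contra hcon
  push Not at hcon
  obtain ⟨hW1, hE1⟩ := hcon
  haveI : Fact (Nat.Prime 2) := ⟨Nat.prime_two⟩
  set E := HC ⊓ stabilizer G b with hEdef
  have hEW : E ≤ W := h.stab_le hn hIH hO hW hb
  have hfix : ¬ W ≤ stabilizer G b := fun e => hW1 (h.eq_bot_of_fixes hn hIH hO hW hb e)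
  have hEodd : Odd (Nat.card E) := hWodd.of_dvd_nat (card_dvd_of_le hEW)
  set p := (Nat.card E).minFac with hpdef
  have hcardE : Nat.card E ≠ 1 := fun e => hE1 (card_eq_one.mp e)
  haveI hpf : Fact p.Prime := ⟨Nat.minFac_prime hcardE⟩
  have hpodd : Odd p := hEodd.of_dvd_nat (Nat.minFac_dvd _)
  have hp2 : p ≠ 2 := fun e => by rw [e] at hpodd; exact absurd hpodd (by decide)
  obtain ⟨P₀⟩ : Nonempty (Sylow p E) := inferInstance
  set P := (P₀ : Subgroup E).map E.subtype with hPdef
  have hPp : IsPGroup p P := P₀.2.map _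
  have hPE : P ≤ E := map_subtype_le _
  have hP1 : P ≠ ⊥ := fun e => P₀.ne_bot_of_dvd_card (Nat.minFac_dvd _)
    ((map_eq_bot_iff_of_injective _ E.subtype_injective).mp e)
  haveI hPc : IsCyclic P := h.isCyclic_pSubgroup hn hIH hO hW hb hfix hWodd hPp hPE
  -- an element of order `p` commuting with an involution
  obtain ⟨x, hx⟩ := exists_prime_orderOf_dvd_card' (G := P) p (by
    obtain ⟨k, hk⟩ := hPp.exists_card_eq
    rcases k with _ | k
    · exact absurd (card_eq_one.mp (hk.trans (pow_zero p))) hP1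
    · rw [hk]; exact dvd_pow_self _ k.succ_ne_zero)
  obtain ⟨t, ht, ht1⟩ := h.exists_invol
  have hreal : ∀ y v : G, orderOf y = p → orderOf v = 2 → v * y * v⁻¹ = y⁻¹ → False :=
    fun y v hy hv hi => h.real p hpf.out hp2 x t ((orderOf_coe x).trans hx) (h.orderOf_mem ht ht1)
      ((hPE x.2).1 t ht) y v hy hv hi
  -- the normaliser of `P`
  set M := normalizer (P : Set G) with hMdef
  have hSM : (S : Subgroup G) ≤ M := h.le_normalizer_of_le hn hIH hO (hPE.trans inf_le_left)
  have hMtop : M ≠ ⊤ := h.normalizer_ne_top_of_le hn hIH hO hb hPE hP1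
  have hnM : ¬ (S.subtype hSM : Subgroup M).Normal := by
    intro hnormal
    induction b using QuotientGroup.induction_on with
    | _ g =>
    have hg : g ∉ HN := fun hg => hb (QuotientGroup.eq.mpr (by simpa using hg))
    have hgM : (S : Subgroup G).map (MulAut.conj g).toMonoidHom ≤ M :=
      h.map_conj_le_normalizer hn hIH hO hg hPE
    refine hg (mem_normalizer_iff.mpr fun z => ?_)
    have hle : M ≤ HN :=
      (normal_subgroupOf_iff_le_normalizer hSM).mp (Sylow.coe_subtype S hSM ▸ hnormal :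
        ((S : Subgroup G).subgroupOf M).Normal)
    have hsup : IsPGroup 2 ↥((S : Subgroup G).map (MulAut.conj g).toMonoidHom ⊔ (S : Subgroup G)) :=
      IsPGroup.to_sup_of_normal_right' (S.2.map _) S.2 (hgM.trans hle)
    have heq := eq_of_le_of_card_ge (le_sup_left.trans (S.3 hsup le_sup_right).le)
      (by rw [card_map_of_injective (MulEquiv.injective _)])
    conv_rhs => rw [← heq]
    rw [← mem_map_iff_mem (f := (MulAut.conj g).toMonoidHom) (MulEquiv.injective _)]
    rfl
  obtain ⟨-, F, _, _, hFcard, φ, hφ, hker⟩ := hIH M hMtop _ (h.subgroup hSM) hnM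
  have hkodd : Odd (Nat.card φ.ker) := hker ▸ odd_card_oddCore
  haveI : CharP F 2 := charTwo_of_even_card (by
    rw [hFcard, h.card_subtype_sylow hSM]
    obtain ⟨a, ha⟩ := (S.2 : IsPGroup 2 (S : Subgroup G)).exists_card_eq
    have h4 := h.four_le
    rw [ha] at h4 ⊢
    rcases a with _ | a
    · simp at h4
    · exact ⟨2 ^ a, by ring⟩)
  have hinvert : ∀ z : M, ∃ w : M, orderOf (φ w) = 2 ∧ φ w * φ z * (φ w)⁻¹ = (φ z)⁻¹ := by
    intro z
    obtain ⟨M₀, h2, hne, hi⟩ := exists_involution_inverting (φ z)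
    obtain ⟨w, rfl⟩ := hφ M₀
    exact ⟨w, Invol.orderOf_eq_two hne h2, hi⟩
  -- the odd core of `M` lies in `E`
  have hOE : (Cfsg.oddCore M).map M.subtype ≤ E := by
    rintro _ ⟨c, hc, rfl⟩
    have hOodd : Odd (Nat.card ((Cfsg.oddCore M).map M.subtype)) := by
      rw [card_map_of_injective M.subtype_injective]; exact odd_card_oddCore
    have hcC : (c : G) ∈ HC := by
      refine h.le_centralizer_of_le_normalizer hOodd (fun s hs => mem_normalizer_iff.mpr fun y => ⟨?_, ?_⟩)
        ⟨c, hc, rfl⟩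
      · rintro ⟨z, hz, rfl⟩
        exact ⟨⟨s, hSM hs⟩ * z * ⟨s, hSM hs⟩⁻¹,
          (Solvable.pPrimeCore_normal 2 M).conj_mem _ hz _, by simp⟩
      · rintro ⟨z, hz, e⟩
        refine ⟨⟨s, hSM hs⟩⁻¹ * z * ⟨s, hSM hs⟩,
          by simpa using (Solvable.pPrimeCore_normal 2 M).conj_mem _ hz (⟨s, hSM hs⟩ : M)⁻¹, ?_⟩
        simp only [coe_subtype, coe_mul, InvMemClass.coe_inv] at e ⊢
        rw [e]; group
    have hco : Odd (orderOf (c : G)) := by
      rw [orderOf_coe]
      exact (odd_card_oddCore (G := M)).of_dvd_nat (Subgroup.orderOf_dvd_natCard _ hc)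
    exact ⟨hcC, h.fix_of_normalizes hn hIH hO hb hPE hP1 hcC hco c.2⟩
  have hpM : ∀ Q : Subgroup M, IsPGroup p Q → Q.map M.subtype ≤ E := by
    rintro Q hQ _ ⟨z, hz, rfl⟩
    refine hOE ⟨z, ?_, rfl⟩
    rw [SetLike.mem_coe, ← hker, MonoidHom.mem_ker]
    by_contra hne
    obtain ⟨k, hk⟩ := IsPGroup.iff_orderOf.mp hQ ⟨z, hz⟩
    rw [orderOf_mk] at hk
    have hdvd : p ∣ orderOf (φ z) := by
      obtain ⟨j, -, hj⟩ := (Nat.dvd_prime_pow hpf.out).mp (hk ▸ orderOf_map_dvd φ z)
      rcases j with _ | j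
      · exact absurd (orderOf_eq_one_iff.mp (hj.trans (pow_zero p))) hne
      · rw [hj]; exact dvd_pow_self _ j.succ_ne_zero
    obtain ⟨w, hw, hi⟩ := hinvert z
    obtain ⟨y, v, hy, hv, hyv⟩ := exists_inverted_prime φ hkodd hpf.out hp2 hw hi hdvd
    exact hreal y v ((orderOf_coe y).trans hy) ((orderOf_coe v).trans hv)
      (by simpa using congrArg Subtype.val hyv)
  have hmaxE : ∀ Q : Subgroup G, IsPGroup p Q → P ≤ Q → Q ≤ E → Q = P := by
    intro Q hQ hPQ hQE
    have h1 : (P₀ : Subgroup E) ≤ Q.subgroupOf E := fun z hz => hPQ ⟨z, hz, rfl⟩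
    have h2 : IsPGroup p (Q.subgroupOf E) := hQ.of_equiv (subgroupOfEquivOfLe hQE).symm
    have h3 := P₀.3 h2 h1
    rw [hPdef, ← h3, subgroupOf_map_subtype, inf_eq_left.mpr hQE]
  have hmaxG : ∀ Q : Subgroup G, IsPGroup p Q → P ≤ Q → Q = P := by
    intro Q hQ hPQ
    by_contra hne
    haveI : Group.IsNilpotent Q := hQ.isNilpotent
    have hlt := Group.normalizerCondition_of_isNilpotent (G := Q) (P.subgroupOf Q)
      (lt_top_iff_ne_top.mpr fun e => hne (le_antisymm (subgroupOf_eq_top.mp e) hPQ))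
    have hRM : Q ⊓ M = P := by
      have hle : Q ⊓ M ≤ E := by
        have := hpM ((Q ⊓ M).subgroupOf M)
          ((hQ.to_le inf_le_left).of_equiv (subgroupOfEquivOfLe inf_le_right).symm)
        rwa [subgroupOf_map_subtype, inf_eq_left.mpr inf_le_right] at this
      exact hmaxE _ (hQ.to_le inf_le_left) (le_inf hPQ le_normalizer) hle
    refine hlt.not_ge fun r hr => ?_
    show (r : G) ∈ P
    rw [← hRM]
    refine ⟨r.2, mem_normalizer_iff.mpr fun y => ⟨fun hy => ?_, fun hy => ?_⟩⟩
    · exact (mem_normalizer_iff.mp hr ⟨y, hPQ hy⟩).mp hy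
    · have hyQ : y ∈ Q := by
        have := mul_mem (mul_mem (inv_mem r.2) (hPQ hy)) r.2
        simpa [mul_assoc] using this
      exact (mem_normalizer_iff.mp hr ⟨y, hyQ⟩).mpr hy
  let PG : Sylow p G := ⟨P, hPp, fun {Q} hQ hle => hmaxG Q hQ hle⟩
  -- `M` centralises `P`
  have hMC : M ≤ centralizer (P : Set G) := by
    letI : CommGroup (MulAut P) := (IsCyclic.mulAutMulEquiv P).toMonoidHom.commGroupOfInjective
      (IsCyclic.mulAutMulEquiv P).injective
    let ψ : M →* MulAut P := P.normalizerMonoidHom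
    have hψker : ∀ c : M, c ∈ ψ.ker ↔ (c : G) ∈ centralizer (P : Set G) := fun c => by
      rw [show ψ.ker = _ from P.normalizerMonoidHom_ker]; rfl
    have hS : (S.subtype hSM : Subgroup M) ≤ ψ.ker := fun s hs => (hψker s).mpr fun y hy =>
      ((hPE hy).1 _ hs).symm
    have hinv : ∀ v : M, orderOf v = 2 → ψ v = 1 := fun v hv => map_eq_one_of_invol ψ _ hS hv
    have hidx : Odd ψ.ker.index := by
      rw [← Nat.not_even_iff_odd]
      exact fun hev => (S.subtype hSM).not_dvd_index
        ((even_iff_two_dvd.mp hev).trans (index_dvd_of_le hS))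
    set T := ψ.ker ⊔ Cfsg.oddCore M with hT
    haveI : (Cfsg.oddCore M).Normal := Solvable.pPrimeCore_normal 2 M
    have hTtop : T = ⊤ := by
      refine (eq_top_iff' _).mpr fun z => ?_
      have hz2 : z ^ 2 ∈ T := by
        obtain ⟨w, hw, hi⟩ := hinvert z⁻¹
        obtain ⟨k, v, hv, hk, hφk⟩ := exists_inverted_lift φ hkodd hw hi
        have hk2 : k ^ 2 ∈ T := by
          refine mem_sup_left (MonoidHom.mem_ker.mpr ?_)
          have := congrArg ψ hk
          rw [map_mul, map_mul, map_inv, map_inv, hinv v hv, one_mul, inv_one, mul_one] at this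
          rw [map_pow, pow_two]; nth_rewrite 1 [this]; exact inv_mul_cancel _
        have hq : (z ^ 2) ^ 2 ∈ T := by
          have hmem : (k ^ 2)⁻¹ * (z ^ 2) ^ 2 ∈ Cfsg.oddCore M := by
            rw [← hker, MonoidHom.mem_ker, map_mul, map_inv, map_pow, map_pow, map_pow, hφk,
              map_inv, inv_inv, inv_mul_cancel]
          have := mul_mem hk2 (mem_sup_right hmem : (k ^ 2)⁻¹ * (z ^ 2) ^ 2 ∈ T)
          rwa [mul_inv_cancel_left] at this
        have hT2 : Odd T.index := hidx.of_dvd_nat (index_dvd_of_le le_sup_left)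
        obtain ⟨j, hj⟩ := hT2
        have h1 := T.pow_index_mem (z ^ 2)
        rw [hj, pow_succ, pow_mul] at h1
        exact (mul_mem_cancel_left (pow_mem hq j)).mp h1
      have hT2 : Odd T.index := hidx.of_dvd_nat (index_dvd_of_le le_sup_left)
      obtain ⟨j, hj⟩ := hT2
      have h1 := T.pow_index_mem z
      rw [hj, pow_succ, pow_mul] at h1
      exact (mul_mem_cancel_left (pow_mem hz2 j)).mp h1
    have hrange : ψ.range = (Cfsg.oddCore M).map ψ := by
      rw [MonoidHom.range_eq_map, ← hTtop, Subgroup.map_sup, (Subgroup.map_eq_bot_iff _).mpr le_rfl,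
        bot_sup_eq]
    have hd1 : Nat.card ψ.range ∣ Nat.card E := by
      rw [hrange]
      refine ((Cfsg.oddCore M).card_map_dvd ψ).trans ?_
      rw [← card_map_of_injective (f := M.subtype) (K := Cfsg.oddCore M) M.subtype_injective]
      exact card_dvd_of_le hOE
    have hd2 : Nat.card ψ.range ∣ Nat.card (MulAut P) := card_subgroup_dvd_card _
    have hd3 : ¬ p ∣ Nat.card ψ.range := by
      rw [← index_ker ψ]
      intro hd
      have hPk : P.subgroupOf M ≤ ψ.ker := fun y hy => (hψker y).mpr fun z hz =>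
        congrArg Subtype.val ((IsCyclic.isMulCommutative (α := P)).is_comm.comm ⟨z, hz⟩ ⟨y, hy⟩)
      exact (PG.subtype (le_normalizer : P ≤ M)).not_dvd_index (hd.trans (index_dvd_of_le hPk))
    have h1 : Nat.card ψ.range = 1 := by
      by_contra hne
      obtain ⟨r, hr, hrd⟩ := Nat.exists_prime_and_dvd hne
      have hrE := hrd.trans hd1
      have hpr : p ≤ r := Nat.minFac_le_of_dvd hr.two_le hrE
      obtain ⟨k, hk⟩ := hPp.exists_card_eq
      rcases k with _ | k
      · exact hP1 (card_eq_one.mp (hk.trans (pow_zero p)))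
      have hr2 := hrd.trans hd2
      rw [IsCyclic.card_mulAut, hk, Nat.totient_prime_pow_succ hpf.out] at hr2
      rcases hr.dvd_mul.mp hr2 with e | e
      · exact hd3 ((Nat.prime_dvd_prime_iff_eq hr hpf.out).mp (hr.dvd_of_dvd_pow e) ▸ hrd)
      · have := Nat.le_of_dvd (by have := hpf.out.two_le; omega) e
        have := hr.two_le
        omega
    intro c hc
    refine (hψker ⟨c, hc⟩).mp ?_
    rw [MonoidHom.ker_eq_top_iff.mpr (MonoidHom.range_eq_bot_iff.mp (card_eq_one.mp h1))]
    trivial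
  -- the transfer
  set τ := MonoidHom.transferSylow PG hMC
  have hc := MonoidHom.ker_transferSylow_isComplement' PG hMC
  have hidx : τ.ker.index = Nat.card P := hc.symm.index_eq_card
  have hSK : (S : Subgroup G) ≤ τ.ker := by
    intro s hs
    have hd : orderOf (τ s) ∣ 2 :=
      orderOf_dvd_of_pow_eq_one (by rw [← map_pow, pow_two, h.elem s hs, map_one])
    rcases (Nat.dvd_prime Nat.prime_two).mp hd with e | e
    · exact MonoidHom.mem_ker.mpr (orderOf_eq_one_iff.mp e)
    · exact absurd ((hWodd.of_dvd_nat (card_dvd_of_le (hPE.trans hEW))).of_dvd_nat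
        (e ▸ orderOf_dvd_natCard (τ s))) (by decide)
  have hKtop : τ.ker ≠ ⊤ := fun e => by
    rw [e, index_top] at hidx
    exact hP1 (card_eq_one.mp hidx.symm)
  obtain ⟨hK1, -⟩ := hIH τ.ker hKtop _ (h.subgroup hSK) (Hyp.not_normal_of_normal hn hSK)
  have hKcore : Cfsg.oddCore τ.ker = ⊥ := by
    haveI : (Cfsg.oddCore τ.ker).Characteristic := Solvable.pPrimeCore_characteristic 2 τ.ker
    have := le_oddCore (N := (Cfsg.oddCore τ.ker).map τ.ker.subtype) inferInstance
      (by rw [card_map_of_injective τ.ker.subtype_injective]; exact odd_card_oddCore)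
    rw [hO, le_bot_iff, map_eq_bot_iff_of_injective _ τ.ker.subtype_injective] at this
    exact this
  have hWK : Disjoint W τ.ker := by
    refine disjoint_def.mpr fun {z} hzW hzK => ?_
    have := hK1 ⟨z, hzK⟩ (fun s hs => Subtype.ext (((hW z).mp hzW).1 s hs))
      (by rw [orderOf_mk]; exact ((hW z).mp hzW).2)
    rw [hKcore, mem_bot] at this
    exact congrArg Subtype.val this
  have hWle : Nat.card W ≤ Nat.card P := by
    rw [← hidx, index_ker]
    refine Nat.card_le_card_of_injective (fun z : W => (⟨τ z, z, rfl⟩ : τ.range)) fun a b e => ?_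
    refine Subtype.ext (eq_of_inv_mul_eq_one (disjoint_def.mp hWK (mul_mem (inv_mem a.2) b.2) ?_))
    have e' : τ a = τ b := congrArg Subtype.val e
    rw [MonoidHom.mem_ker, map_mul, map_inv, e', inv_mul_cancel]
  have hPW := eq_of_le_of_card_ge (hPE.trans hEW) hWle
  exact hfix fun z hz => (hPE (hPW.symm ▸ hz : z ∈ P)).2

end Hyp

end CfsgLib.TIElem
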