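import Cfsg.Agent.Lib.TIElem.Split
import Cfsg.Agent.Lib.TIElem.PSLOdd
import Cfsg.Agent.S0340

/-!
# The semiregular case: the odd part is trivial
-/

set_option autoImplicit false
set_option linter.unusedSectionVars false
set_option linter.style.haveILetI false

namespace CfsgLib.TIElem

open MulAction Subgroup

universe u

/-- Arithmetic for the Suzuki order. -/
theorem not_suzuki_order {a w s : ℕ} (ha : 2 ≤ a) (hw : 1 ≤ w) (hwo : Odd w) (hs : Even s)
    (hs0 : s ≠ 0) (hq : ∃ k, 2 ^ k = s)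
    (e : (1 + 2 ^ a * w) * (2 ^ a * w * (2 ^ a - 1)) = s ^ 2 * (s ^ 2 + 1) * (s - 1)) : False := by
  obtain ⟨k, rfl⟩ := hq
  have hk : k ≠ 0 := fun h => by simp [h] at hs
  have hodd1 : Odd ((1 + 2 ^ a * w) * (w * (2 ^ a - 1))) := by
    have h2 : Even (2 ^ a) := (even_two).pow_of_ne_zero (by omega)
    refine (odd_one.add_even (h2.mul_right w)).mul (hwo.mul ?_)
    exact Nat.Even.sub_odd (Nat.one_le_two_pow) h2 odd_one
  have hodd2 : Odd (((2 ^ k) ^ 2 + 1) * (2 ^ k - 1)) := by
    have h2 : Even (2 ^ k) := (even_two).pow_of_ne_zero hk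
    exact ((h2.pow_of_ne_zero two_ne_zero).add_one).mul
      (Nat.Even.sub_odd (Nat.one_le_two_pow) h2 odd_one)
  have e' : 2 ^ a * ((1 + 2 ^ a * w) * (w * (2 ^ a - 1))) =
      (2 ^ k) ^ 2 * (((2 ^ k) ^ 2 + 1) * (2 ^ k - 1)) := by
    rw [← mul_assoc ((2 ^ k) ^ 2), ← e]; ring
  have hc1 : (2 ^ a).Coprime (((2 ^ k) ^ 2 + 1) * (2 ^ k - 1)) :=
    Nat.Coprime.pow_left _ (Nat.coprime_two_left.mpr hodd2)
  have hc2 : ((2 ^ k) ^ 2).Coprime ((1 + 2 ^ a * w) * (w * (2 ^ a - 1))) :=
    Nat.Coprime.pow_left _ (Nat.Coprime.pow_left _ (Nat.coprime_two_left.mpr hodd1))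
  have heq : 2 ^ a = (2 ^ k) ^ 2 := Nat.dvd_antisymm (hc1.dvd_of_dvd_mul_right ⟨_, e'.symm⟩)
    (hc2.dvd_of_dvd_mul_right ⟨_, e'⟩)
  rw [heq] at e'
  have e2 := Nat.eq_of_mul_eq_mul_left (by positivity) e'
  have h2k : 2 ≤ 2 ^ k := Nat.le_self_pow hk 2
  set x := 2 ^ k with hx
  obtain ⟨y, hy⟩ : ∃ y, x = y + 2 := ⟨x - 2, by omega⟩
  have h1 : x ^ 2 + 1 ≤ 1 + x ^ 2 * w := by nlinarith
  have h3 : x - 1 < w * (x ^ 2 - 1) := by
    have h4 : x - 1 < x ^ 2 - 1 := by
      have : x < x ^ 2 := by nlinarith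
      omega
    exact h4.trans_le (Nat.le_mul_of_pos_left _ hw)
  have := Nat.mul_lt_mul_of_le_of_lt h1 h3 (by positivity)
  omega

/-- Arithmetic for `PSL(2, f)`, `f` even. -/
theorem eq_one_of_psl_even {a w c : ℕ} (ha : 2 ≤ a) (hw : 1 ≤ w) (hwo : Odd w) (hc : c ≠ 0)
    (e : (1 + 2 ^ a * w) * (2 ^ a * w * (2 ^ a - 1)) = 2 ^ c * ((2 ^ c - 1) * (2 ^ c + 1))) :
    w = 1 := by
  have h2a : Even (2 ^ a) := (even_two).pow_of_ne_zero (by omega)
  have h2c : Even (2 ^ c) := (even_two).pow_of_ne_zero hc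
  have hodd1 : Odd ((1 + 2 ^ a * w) * (w * (2 ^ a - 1))) :=
    (odd_one.add_even (h2a.mul_right w)).mul
      (hwo.mul (Nat.Even.sub_odd (Nat.one_le_two_pow) h2a odd_one))
  have hodd2 : Odd ((2 ^ c - 1) * (2 ^ c + 1)) :=
    (Nat.Even.sub_odd (Nat.one_le_two_pow) h2c odd_one).mul h2c.add_one
  have e' : 2 ^ a * ((1 + 2 ^ a * w) * (w * (2 ^ a - 1))) = 2 ^ c * ((2 ^ c - 1) * (2 ^ c + 1)) := by
    rw [← e]; ring
  have heq : 2 ^ a = 2 ^ c := Nat.dvd_antisymm
    ((Nat.Coprime.pow_left _ (Nat.coprime_two_left.mpr hodd2)).dvd_of_dvd_mul_right ⟨_, e'.symm⟩)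
    ((Nat.Coprime.pow_left _ (Nat.coprime_two_left.mpr hodd1)).dvd_of_dvd_mul_right ⟨_, e'⟩)
  rw [← heq] at e'
  have e2 := Nat.eq_of_mul_eq_mul_left (by positivity) e'
  have h4 : 4 ≤ 2 ^ a := by
    calc 4 = 2 ^ 2 := rfl
      _ ≤ 2 ^ a := Nat.pow_le_pow_right (by norm_num) ha
  set x := 2 ^ a
  by_contra hne
  have hw2 : 2 ≤ w := by omega
  have h1 : x + 1 < 1 + x * w := by nlinarith
  have h3 : x - 1 ≤ w * (x - 1) := Nat.le_mul_of_pos_left _ hw
  have := Nat.mul_lt_mul_of_lt_of_le h1 h3 (by omega)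
  rw [mul_comm (x + 1)] at this
  omega

/-- Arithmetic for `PSL(2, f)`, `f` odd. -/
theorem eq_one_of_psl_odd {q w f : ℕ} (hq : 4 ≤ q) (hq2 : Even q) (hw : 1 ≤ w) (hwo : Odd w)
    (hf : 3 ≤ f) (hC : q * w + 1 = f ∨ q * w = f + 1)
    (e : (1 + q * w) * (q * w * (q - 1)) * 2 = f * ((f - 1) * (f + 1))) : w = 1 := by
  obtain ⟨r, hr⟩ : ∃ r, q = r + 1 := ⟨q - 1, by omega⟩
  have hr1 : q - 1 = r := by omega
  rw [hr1] at e
  rcases hC with h | h
  · obtain ⟨g, hg⟩ : ∃ g, f = g + 1 := ⟨f - 1, by omega⟩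
    have hg' : q * w = g := by omega
    rw [hg, Nat.add_sub_cancel, hg'] at e
    have h3 : 2 * r = g + 2 := by
      have h5 : (1 + g) * g * (2 * r) = (1 + g) * g * (g + 2) := by nlinarith
      exact Nat.eq_of_mul_eq_mul_left (Nat.mul_pos (by omega) (by nlinarith)) h5
    by_contra hne
    have hw3 : 3 ≤ w := by
      obtain ⟨j, hj⟩ := hwo
      omega
    have := Nat.mul_le_mul_left q hw3
    omega
  · obtain ⟨g, hg⟩ : ∃ g, f = g + 1 := ⟨f - 1, by omega⟩
    rw [hg, Nat.add_sub_cancel, h, hg] at e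
    have h3 : 2 * r * (g + 3) = (g + 1) * g := by
      have h5 : (g + 2) * (2 * r * (g + 3)) = (g + 2) * ((g + 1) * g) := by nlinarith
      exact Nat.eq_of_mul_eq_mul_left (by positivity) h5
    have hd : (g + 3) ∣ (g + 3) * g - 2 * (g + 3) + 6 := by
      have : (g + 3) * g - 2 * (g + 3) + 6 = (g + 1) * g := by
        by_cases h2 : 2 ≤ g
        · have := Nat.mul_le_mul_left (g + 3) h2
          have e1 : (g + 3) * g = (g + 1) * g + 2 * g := by ring
          omega
        · omega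
      rw [this, ← h3]; exact dvd_mul_left _ _
    have hd6 : (g + 3) ∣ 6 :=
      (Nat.dvd_add_right (Nat.dvd_sub (dvd_mul_right _ _) (dvd_mul_left _ _))).mp hd
    have := Nat.le_of_dvd (by norm_num) hd6
    have hg3 : g ≤ 3 := by omega
    interval_cases g <;> omega

namespace Hyp

variable {G : Type u} [Group G] [Finite G] {S : Sylow 2 G} (h : Hyp S)
  (hn : ¬ (S : Subgroup G).Normal) (hIH : GoodBelow G) (hO : Cfsg.oddCore G = ⊥)
include h hn hIH hO

local notation "HN" => normalizer ((S : Subgroup G) : Set G)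
local notation "HC" => centralizer ((S : Subgroup G) : Set G)
local notation "Ω" => G ⧸ normalizer ((S : Subgroup G) : Set G)
local notation "o" => (QuotientGroup.mk 1 : G ⧸ normalizer ((S : Subgroup G) : Set G))
local notation "m" => Nat.card (S : Subgroup G) - 1

theorem eq_bot_of_semiregular {W : Subgroup G}
    (hWC : Nat.card HC = Nat.card (S : Subgroup G) * Nat.card W) (hWodd : Odd (Nat.card W))
    (hsemi : ∀ b : Ω, b ≠ o → HC ⊓ stabilizer G b = ⊥) : W = ⊥ := by
  classical
  haveI : Fact (Nat.Prime 2) := ⟨Nat.prime_two⟩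
  set q := Nat.card (S : Subgroup G) with hq
  set w := Nat.card W with hw
  have hw1 : 1 ≤ w := Nat.card_pos
  refine card_eq_one.mp (show w = 1 from ?_)
  obtain ⟨a, ha⟩ := (S.2 : IsPGroup 2 (S : Subgroup G)).exists_card_eq
  rw [← hq] at ha
  have h4 := h.four_le
  rw [← hq] at h4
  have ha2 : 2 ≤ a := by
    rcases a with _ | _ | a
    · simp [ha] at h4
    · simp [ha] at h4
    · omega
  have hq2 : Even q := ha ▸ (even_two).pow_of_ne_zero (by omega)
  obtain ⟨b, hb⟩ := h.exists_ne_base hn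
  have hΩ : Nat.card Ω = 1 + q * w := by
    have e := h.card_points hn hb
    rw [hsemi b hb, card_bot, mul_one, hWC] at e
    have : 1 ≤ Nat.card Ω := Nat.card_pos
    omega
  have hG : Nat.card G = (1 + q * w) * (q * w * (q - 1)) := by
    rw [← hΩ, ← hWC, ← h.card_normalizer hn]
    exact card_eq_card_quotient_mul_card_subgroup _
  have hD : ∀ {c : Ω}, c ≠ o → Nat.card ↥(HN ⊓ stabilizer G c) = m := fun {c} hc => by
    rw [h.card_stab hn hc, hsemi c hc, card_bot, mul_one]
  by_cases hsimple : IsSimpleGroup G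
  swap
  · -- a proper normal subgroup has all involutions
    obtain ⟨T, hT, hT1, hTtop⟩ : ∃ T : Subgroup G, T.Normal ∧ T ≠ ⊥ ∧ T ≠ ⊤ := by
      by_contra hne
      push Not at hne
      haveI : Nontrivial G := ⟨⟨_, 1, h.exists_invol.choose_spec.2⟩⟩
      exact hsimple ⟨fun T hT => (em (T = ⊥)).imp id (hne T hT)⟩
    haveI := hT
    have hTe : Even (Nat.card T) := Nat.not_odd_iff_even.mp fun hodd =>
      hT1 (le_bot_iff.mp (hO ▸ le_oddCore hT hodd))
    obtain ⟨i, hi, hi2⟩ := Invol.exists_orderOf_two_of_even_card hTe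
    have hall : ∀ v : G, orderOf v = 2 → v ∈ T := fun v hv => by
      obtain ⟨g, rfl⟩ := isConj_iff.mp (SEmb.isConj_invol (h.stronglyEmbedded hn) hi2 hv)
      exact hT.conj_mem i hi g
    have hST : (S : Subgroup G) ≤ T := fun s hs => by
      by_cases h1 : s = 1
      · exact h1 ▸ one_mem T
      · exact hall s (h.orderOf_mem hs h1)
    obtain ⟨-, F, _, _, hF, φ, hφ, hker⟩ := hIH T hTtop _ (h.subgroup hST)
      (Hyp.not_normal_of_normal hn hST)
    have hcore : Cfsg.oddCore T = ⊥ := by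
      haveI : (Cfsg.oddCore T).Characteristic := Solvable.pPrimeCore_characteristic 2 T
      have := le_oddCore (N := (Cfsg.oddCore T).map T.subtype) inferInstance
        (by rw [card_map_of_injective T.subtype_injective]; exact odd_card_oddCore)
      rw [hO, le_bot_iff, map_eq_bot_iff_of_injective _ T.subtype_injective] at this
      exact this
    have hcardT : Nat.card T = q * (q ^ 2 - 1) := by
      rw [Nat.card_eq_of_bijective φ ⟨φ.ker_eq_bot_iff.mp (hker.trans hcore), hφ⟩,
        Linear.card_SL_two, hF, h.card_subtype_sylow hST]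
    -- `T` is transitive, and contains an element of order `q - 1` fixing the base point
    have htrans : (orbit T o : Set Ω) = Set.univ := by
      refine Set.eq_univ_of_forall fun c => ?_
      by_cases hc : c = o
      · exact ⟨1, (one_smul T o).trans hc.symm⟩
      · obtain ⟨y, u, -, -, -, hu, hub, -⟩ := h.exists_real hn hc
        exact ⟨⟨u, hall u hu⟩, hub⟩
    have horb : Nat.card Ω * Nat.card (stabilizer T o) = Nat.card T := by
      rw [← Nat.card_congr (orbitProdStabilizerEquivGroup T o), Nat.card_prod, htrans,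
        Nat.card_congr (Equiv.Set.univ Ω)]
    have hstab : q * m ∣ Nat.card (stabilizer T o) := by
      have e : stabilizer T o = (HN).subgroupOf T := by
        ext x
        rw [mem_stabilizer_iff, mem_subgroupOf]
        exact SEmb.smul_one_eq_iff (x : G)
      rw [e]
      have hc : q.Coprime m := by
        rw [ha]
        exact Nat.Coprime.pow_left _ (Nat.coprime_two_left.mpr (h.m_odd hn))
      refine hc.mul_dvd_of_dvd_of_dvd ?_ ?_
      · exact (dvd_of_eq (h.card_subtype_sylow hST).symm).trans (card_dvd_of_le fun s hs => le_normalizer (show (s : G) ∈ (S : Subgroup G) from hs))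
      · obtain ⟨y, u, hy, hyN, -, hu, -, hinv⟩ := h.exists_real hn hb
        have hyT : y ∈ T := by
          have hy2 : y ^ 2 ∈ T := by
            have hmem : u * (y * u⁻¹ * y⁻¹) ∈ T :=
              mul_mem (hall u hu) (hT.conj_mem _ (inv_mem (hall u hu)) y)
            rw [show u * (y * u⁻¹ * y⁻¹) = (u * y * u⁻¹) * y⁻¹ by group, hinv] at hmem
            have := inv_mem hmem
            simpa [pow_two] using this
          obtain ⟨j, hj⟩ := h.m_odd hn
          have : y = (y ^ 2) ^ (j + 1) := by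
            rw [← pow_mul, show 2 * (j + 1) = orderOf y + 1 by rw [hy]; omega, pow_succ,
              pow_orderOf_eq_one, one_mul]
          rw [this]
          exact pow_mem hy2 _
        have := orderOf_dvd_natCard (⟨⟨y, hyT⟩, mem_subgroupOf.mpr hyN⟩ : (HN).subgroupOf T)
        rwa [orderOf_mk, orderOf_mk, hy] at this
    obtain ⟨k, hk⟩ := hstab
    rw [hΩ, hk, hcardT] at horb
    have hk0 : k ≠ 0 := by
      rintro rfl
      rw [mul_zero, mul_zero] at horb
      have : 0 < q * (q ^ 2 - 1) := Nat.mul_pos (by omega) (by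
        have := Nat.pow_le_pow_left h4 2; omega)
      omega
    by_contra hne
    have hw2 : 2 ≤ w := by omega
    have h1 : q + 1 < 1 + q * w := by nlinarith
    have hm : 0 < m := h.mprime.pos
    have h2 : (q + 1) * (q * m) < (1 + q * w) * (q * m * k) :=
      Nat.mul_lt_mul_of_lt_of_le h1 (Nat.le_mul_of_pos_right _ (Nat.pos_of_ne_zero hk0))
        (Nat.mul_pos (Nat.mul_pos (by omega) hm) (Nat.pos_of_ne_zero hk0))
    have h3 : (q + 1) * (q * m) = q * (q ^ 2 - 1) := by
      rw [show q ^ 2 - 1 = (q + 1) * m by rw [← Nat.sq_sub_sq, one_pow]]; ring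
    omega
  -- the simple case
  have hcoreN : (HN).normalCore = ⊥ :=
    ((normalCore_normal HN).eq_bot_or_eq_top).resolve_right fun e =>
      h.normalizer_ne_top hn (top_le_iff.mp (e ▸ normalCore_le HN))
  have hto : ∀ c d : Ω, c ≠ d → ∃ g : G, g • c = o ∧ g • d = b := by
    intro c d hcd
    obtain ⟨g, hg⟩ := MulAction.exists_smul_eq G c o
    have hgd : g • d ≠ o := fun e => hcd (smul_left_cancel g (hg.trans e.symm))
    obtain ⟨n, hn', hnd⟩ := h.exists_smul_eq_of_ne hn hgd hb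
    exact ⟨n * g, by rw [mul_smul, hg, (SEmb.smul_one_eq_iff n).mpr hn'], by rw [mul_smul, hnd]⟩
  have hZ : Cfsg.IsZassenhausGroup G Ω := by
    refine ⟨⟨fun {g g'} hgg => ?_⟩, is_two_pretransitive_iff.mpr fun {c d c' d'} hcd hcd' => ?_, ?_,
      ?_, ?_⟩
    · have hmem : g'⁻¹ * g ∈ (HN).normalCore := fun x => by
        have := hgg (QuotientGroup.mk x⁻¹)
        rw [← inv_smul_eq_iff.mpr this.symm, smul_smul] at this
        have e : (g'⁻¹ * g) • (QuotientGroup.mk x⁻¹ : Ω) = QuotientGroup.mk x⁻¹ := by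
          rw [← smul_smul, hgg, inv_smul_smul]
        simpa using (SEmb.smul_mk_eq_iff _ _).mp e
      rw [hcoreN, mem_bot] at hmem
      exact (eq_of_inv_mul_eq_one hmem).symm
    · obtain ⟨g, hg1, hg2⟩ := hto c d hcd
      obtain ⟨g', hg1', hg2'⟩ := hto c' d' hcd'
      exact ⟨g'⁻¹ * g, by rw [mul_smul, hg1, inv_smul_eq_iff, hg1'],
        by rw [mul_smul, hg2, inv_smul_eq_iff, hg2']⟩
    · intro g c d e hcd hde hce hgc hgd hge
      obtain ⟨k, hk1, hk2⟩ := hto c d hcd
      set g₁ := k * g * k⁻¹ with hg₁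
      have f1 : g₁ • o = o := by rw [← hk1, hg₁, mul_smul, mul_smul, inv_smul_smul, hgc]
      have f2 : g₁ • b = b := by rw [← hk2, hg₁, mul_smul, mul_smul, inv_smul_smul, hgd]
      have f3 : g₁ • (k • e) = k • e := by rw [hg₁, mul_smul, mul_smul, inv_smul_smul, hge]
      by_contra hg1
      have hg₁1 : g₁ ≠ 1 := fun e => hg1 (conj_eq_one_iff.mp e)
      have hgN : g₁ ∈ HN := (SEmb.smul_one_eq_iff _).mp f1
      have hord : orderOf g₁ = m := by
        have hd := orderOf_dvd_natCard (⟨g₁, mem_inf.mpr ⟨hgN, mem_stabilizer_iff.mpr f2⟩⟩ :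
          ↥(HN ⊓ stabilizer G b))
        rw [orderOf_mk, hD hb] at hd
        exact (h.mprime.eq_one_or_self_of_dvd _ hd).resolve_left
          (fun e => hg₁1 (orderOf_eq_one_iff.mp e))
      have heo : k • e ≠ o := fun e' => hce (smul_left_cancel k (hk1.trans e'.symm))
      exact hde (smul_left_cancel k (hk2.trans (h.fixed_unique hn hord hgN hb f2 heo f3)))
    · obtain ⟨y, u, hy, hyN, hyb, -, -, -⟩ := h.exists_real hn hb
      exact ⟨y, fun e => h.mprime.one_lt.ne (by rw [← hy, e, orderOf_one]), o, b, hb.symm,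
        (SEmb.smul_one_eq_iff y).mpr hyN, hyb⟩
    · intro T hT hTtr
      rcases hT.eq_bot_or_eq_top with rfl | rfl
      · obtain ⟨g, hg⟩ := hTtr.exists_smul_eq o b
        have : g = 1 := Subsingleton.elim _ _
        rw [this] at hg
        exact absurd ((one_smul _ _).symm.trans hg).symm hb
      · refine ⟨o, fun e => ?_⟩
        obtain ⟨t, ht, ht1⟩ := h.exists_invol
        have : (⟨t, mem_top t⟩ : (⊤ : Subgroup G)) ∈ stabilizer (⊤ : Subgroup G) o :=
          (SEmb.smul_one_eq_iff t).mpr (le_normalizer ht)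
        have h2 := mem_bot.mp ((SetLike.ext_iff.mp e _).mp this)
        exact ht1 (congrArg Subtype.val h2)
  rcases Cfsg.Agent.S0340.result hZ with ⟨F, iF, iFF, ⟨e⟩⟩ | ⟨-, k, -, hk⟩
  swap
  · exfalso
    rw [hG, ha] at hk
    exact not_suzuki_order ha2 hw1 hWodd ((even_two).pow_of_ne_zero (by omega))
      (Nat.two_pow_pos _).ne' ⟨_, rfl⟩ hk
  by_cases hf : 2 ∣ Fintype.card F
  · haveI : CharP F 2 := charTwo_of_even_card (even_iff_two_dvd.mpr hf)
    obtain ⟨c, -, hc⟩ := FiniteField.card F 2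
    have hg : Nat.gcd (Fintype.card (Fin 2)) (Fintype.card F - 1) = 1 := by
      rw [Fintype.card_fin]
      refine Nat.coprime_two_left.mpr ?_
      obtain ⟨j, hj⟩ := hf
      exact ⟨j - 1, by have := Fintype.one_lt_card (α := F); omega⟩
    have hcard := Linear.card_PSL_mul (n := Fin 2) (F := F)
    rw [hg, one_mul, Linear.card_SL_two, ← Nat.card_congr e.toEquiv, hG, ha,
      show Fintype.card F ^ 2 - 1 = (Fintype.card F + 1) * (Fintype.card F - 1) by
        rw [← Nat.sq_sub_sq, one_pow],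
      mul_comm (Fintype.card F + 1), hc] at hcard
    exact eq_one_of_psl_even ha2 hw1 hWodd c.ne_zero hcard
  · obtain ⟨t, ht, ht1⟩ := h.exists_invol
    have hCt : centralizer ({t} : Set G) = HC :=
      le_antisymm (h.cent t ht ht1) (centralizer_le (Set.singleton_subset_iff.mpr ht))
    have hmap : Nat.card (centralizer ({e t} : Set (Matrix.ProjectiveSpecialLinearGroup (Fin 2) F))) =
        Nat.card HC := by
      rw [← hCt]
      refine (Nat.card_congr (e.toEquiv.subtypeEquiv fun x => ?_)).symm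
      rw [mem_centralizer_singleton_iff, mem_centralizer_singleton_iff]
      show _ ↔ e x * e t = e t * e x
      rw [← map_mul, ← map_mul, e.injective.eq_iff]
    have hC := card_centralizer_invol hf (t := e t)
      (by rw [MulEquiv.orderOf_eq, h.orderOf_mem ht ht1])
    rw [hmap, hWC] at hC
    have hcard := card_PSL_odd hf
    rw [← Nat.card_congr e.toEquiv, hG] at hcard
    exact eq_one_of_psl_odd h4 hq2 hw1 hWodd
      (by have := Fintype.one_lt_card (α := F); omega) hC hcard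

end Hyp

end CfsgLib.TIElem
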